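import Groth.Agent.S1455
import Groth.Agent.Flat2G.StratSpread
import Groth.Agent.Fdesc.FlatBC
import Groth.Agent.Models2.FPCoh
import Groth.Agent.Models2.FlatIso
import Groth.Agent.FormalA.PullbackQC
import Mathlib.AlgebraicGeometry.Morphisms.Immersion

/-!
# Finite families of affine schemes over which a finitely presented module becomes flat
-/

set_option autoImplicit false
universe u

open CategoryTheory CategoryTheory.Limits AlgebraicGeometry TopologicalSpace

namespace K425.Strat

open Groth.Agent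

variable {X S : Scheme.{u}}

/-- `F` is flat along `g`: its pullback to `X ×_S W` is flat over `W`. -/
def FlatAlong (f : X ⟶ S) (F : X.Modules) {W : Scheme.{u}} (g : W ⟶ S) : Prop :=
  FlatMod.IsFlatOver (pullback.snd f g) ((Scheme.Modules.pullback (pullback.fst f g)).obj F)

theorem isFlatOver_pullback {P Y Y' : Scheme.{u}} {p : P ⟶ X} {q : P ⟶ Y'} {f : X ⟶ Y} {g : Y' ⟶ Y}
    (H : IsPullback p q f g) (M : X.Modules) (h : FlatMod.IsFlatOver f M) :
    FlatMod.IsFlatOver q ((Scheme.Modules.pullback p).obj M) :=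
  fun z => Fdesc.FlatBC.isFlatOverAt_pullback H M z (h _)

theorem flatAlong_iff (f : X ⟶ S) (F : X.Modules) {P W : Scheme.{u}} {p : P ⟶ X} {q : P ⟶ W} {g : W ⟶ S}
    (H : IsPullback p q f g) :
    FlatAlong f F g ↔ FlatMod.IsFlatOver q ((Scheme.Modules.pullback p).obj F) := by
  constructor
  · intro h
    have H' : IsPullback H.isoPullback.hom q (pullback.snd f g) (𝟙 W) :=
      IsPullback.of_horiz_isIso ⟨by simp⟩
    refine Models2.FlatIso.isFlatOver_of_iso q ?_ (isFlatOver_pullback H' _ h)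
    exact (Scheme.Modules.pullbackComp _ _).app F ≪≫ (Scheme.Modules.pullbackCongr (by simp)).app F
  · intro h
    have H' : IsPullback H.isoPullback.inv (pullback.snd f g) q (𝟙 W) :=
      IsPullback.of_horiz_isIso ⟨by simp⟩
    refine Models2.FlatIso.isFlatOver_of_iso _ ?_ (isFlatOver_pullback H' _ h)
    exact (Scheme.Modules.pullbackComp _ _).app F ≪≫ (Scheme.Modules.pullbackCongr (by simp)).app F

/-- Base change along a further map. -/
theorem FlatAlong.comp {f : X ⟶ S} {F : X.Modules} {W W' : Scheme.{u}} {g : W ⟶ S} (h : FlatAlong f F g)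
    (g' : W' ⟶ W) : FlatAlong f F (g' ≫ g) := by
  have H2 := IsPullback.of_hasPullback f g
  have H1 := IsPullback.of_hasPullback (pullback.snd f g) g'
  rw [flatAlong_iff f F (H1.paste_horiz H2)]
  exact Models2.FlatIso.isFlatOver_of_iso _ ((Scheme.Modules.pullbackComp _ _).app F) (isFlatOver_pullback H1 _ h)

/-- Transitivity. -/
theorem FlatAlong.trans {f : X ⟶ S} {F : X.Modules} {V W : Scheme.{u}} {j : V ⟶ S} {g : W ⟶ V}
    (h : FlatAlong (pullback.snd f j) ((Scheme.Modules.pullback (pullback.fst f j)).obj F) g) :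
    FlatAlong f F (g ≫ j) := by
  have H2 := IsPullback.of_hasPullback f j
  have H1 := IsPullback.of_hasPullback (pullback.snd f j) g
  rw [flatAlong_iff f F (H1.paste_horiz H2)]
  exact Models2.FlatIso.isFlatOver_of_iso _ ((Scheme.Modules.pullbackComp _ _).app F) h

theorem exists_strat_affine [CompactSpace S] [QuasiSeparatedSpace S] (f : X ⟶ S) [LocallyOfFinitePresentation f]
    [QuasiCompact f] [QuasiSeparated f] (F : X.Modules) (hF : CohB1.IsFP F) :
    ∃ (ι : Type u) (_ : Finite ι) (W : ι → Scheme.{u}) (g : ∀ i, W i ⟶ S), (∀ i, IsAffine (W i)) ∧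
      (∀ i, IsImmersion (g i)) ∧ (∀ s : S, ∃ i, ∃ t : W i, g i t = s) ∧ ∀ i, FlatAlong f F (g i) := by
  obtain ⟨t, I, hI, htop, h0, hfg, hflat⟩ := S1455.result f F (Models2.FPCoh.isQCoh_of_isFP hF) hF
  let U : ∀ i : Fin t, (I i.castSucc).subscheme.Opens := fun i =>
    (I i.castSucc).subschemeι ⁻¹ᵁ (I i.succ).support.compl
  have hU : ∀ i, CompactSpace (U i : Scheme.{u}) := fun i => by
    refine isCompact_iff_compactSpace.1 ?_
    exact QuasiCompact.isCompact_preimage _ ((I i.succ).support.compl : S.Opens).2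
      (Flat2G.StratSpread.isCompact_support_compl _ (hfg _))
  let 𝒰 : ∀ i, (U i : Scheme.{u}).OpenCover := fun i => (U i : Scheme.{u}).affineCover.finiteSubcover
  refine ⟨Σ i : ULift.{u} (Fin t), (𝒰 i.down).I₀, inferInstance, fun a => (𝒰 a.1.down).X a.2,
    fun a => (𝒰 a.1.down).f a.2 ≫ (U a.1.down).ι ≫ (I a.1.down.castSucc).subschemeι, fun a => ?_, fun a => ?_,
    fun s => ?_, fun a => ?_⟩
  · exact inferInstanceAs (IsAffine ((U a.1.down : Scheme.{u}).affineCover.finiteSubcover.X a.2))
  · exact inferInstance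
  · -- the stratum containing `s`
    have hex : ∃ i : Fin t, s ∈ (I i.castSucc).support ∧ s ∉ (I i.succ).support := by
      by_contra hcon
      push Not at hcon
      have hall : ∀ n : ℕ, ∀ h : n < t + 1, s ∈ (I ⟨n, h⟩).support := by
        intro n
        induction n with
        | zero => 
          intro h
          have : s ∈ ((I 0).support : Set S) := by rw [h0]; trivial
          exact this
        | succ n ih =>
          intro h
          exact hcon ⟨n, by omega⟩ (ih (by omega))
      have h1 := hall t (by omega)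
      have h2 : s ∈ (I (Fin.last t)).support := h1
      rw [htop] at h2
      exact h2
    obtain ⟨i, hi1, hi2⟩ := hex
    have h1 : s ∈ Set.range (I i.castSucc).subschemeι := by
      rw [(I i.castSucc).range_subschemeι]; exact hi1
    obtain ⟨z, hz⟩ := h1
    have hzU : z ∈ U i := by
      change (I i.castSucc).subschemeι z ∈ (I i.succ).support.compl
      rw [hz]; exact hi2
    obtain ⟨a, w, hw⟩ := (𝒰 i).exists_eq ⟨z, hzU⟩
    refine ⟨⟨⟨i⟩, a⟩, w, ?_⟩
    rw [Scheme.Hom.comp_apply, hw, Scheme.Hom.comp_apply]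
    exact hz
  · exact FlatAlong.comp (hflat a.1.down) _

theorem exists_strat [CompactSpace S] (f : X ⟶ S) [LocallyOfFinitePresentation f]
    [QuasiCompact f] [QuasiSeparated f] (F : X.Modules) (hF : CohB1.IsFP F) :
    ∃ (ι : Type u) (_ : Finite ι) (W : ι → Scheme.{u}) (g : ∀ i, W i ⟶ S), (∀ i, IsAffine (W i)) ∧
      (∀ i, IsImmersion (g i)) ∧ (∀ s : S, ∃ i, ∃ t : W i, g i t = s) ∧ ∀ i, FlatAlong f F (g i) := by
  let 𝒱 : S.OpenCover := S.affineCover.finiteSubcover
  have haff : ∀ a, IsAffine (𝒱.X a) := fun a => inferInstanceAs (IsAffine (S.affineCover.finiteSubcover.X a))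
  have hfin : Finite 𝒱.I₀ := inferInstanceAs (Finite S.affineCover.finiteSubcover.I₀)
  choose ι hι W g h1 h2 h3 h4 using fun a : 𝒱.I₀ =>
    exists_strat_affine (pullback.snd f (𝒱.f a)) ((Scheme.Modules.pullback (pullback.fst f (𝒱.f a))).obj F)
      (FormalA.PullbackQC.isFP_pullback _ _ hF)
  refine ⟨Σ a : 𝒱.I₀, ι a, inferInstance, fun b => W b.1 b.2, fun b => g b.1 b.2 ≫ 𝒱.f b.1, fun b => h1 _ _, fun b => ?_,
    fun s => ?_, fun b => FlatAlong.trans (h4 _ _)⟩
  · have := h2 b.1 b.2
    infer_instance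
  · obtain ⟨a, v, hv⟩ := 𝒱.exists_eq s
    obtain ⟨i, w, hw⟩ := h3 a v
    exact ⟨⟨a, i⟩, w, by rw [Scheme.Hom.comp_apply, hw, hv]⟩

end K425.Strat
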