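import Groth.Agent.Variety.K425.SecBC
import Groth.Agent.Variety.K425.Strat
import Groth.Agent.Ega2.RelAmpRows
import Groth.Agent.Ega2.RelAmp
import Groth.Agent.CohqB.PullTwist471
import Groth.Agent.Ega2.TensPow

/-!
# Reduction to affine base: charts
-/

set_option autoImplicit false
universe u
open CategoryTheory CategoryTheory.Limits AlgebraicGeometry TopologicalSpace TensorProduct

namespace K425.Chart

open Groth.Agent K425.SecBC Groth.Agent.VarietyB.PullSec Groth.Agent.VarietyB.FlatH0 Groth.Agent.VarietyB.BCAlg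
open Groth.Agent.CohqA.BaseChangeMod (isBC_iff_isBaseChange)

section Alg

variable {A B : Type u} [CommRing A] [CommRing B] {φ : A →+* B} {M N : Type u}
    [AddCommGroup M] [AddCommGroup N] [Module A M] [Module B N] {θ : M →+ N}

theorem bc_equiv (h : CohqA.BaseChangeMod.IsBC φ θ) :
    letI := φ.toAlgebra; Nonempty (B ⊗[A] M ≃ₗ[B] N) := by
  let _ := φ.toAlgebra
  let _ : Module A N := Module.compHom N φ
  have : IsScalarTower A B N := ⟨fun a b c => by
      change (φ a * b) • c = φ a • b • c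
      rw [mul_smul]⟩
  have h' : IsBaseChange B ({ toFun := θ, map_add' := θ.map_add, map_smul' := h.map_smul } : M →ₗ[A] N) :=
    (isBC_iff_isBaseChange _).1 h
  exact ⟨h'.equiv⟩

theorem bc_finite (h : CohqA.BaseChangeMod.IsBC φ θ) [Module.Finite A M] : Module.Finite B N := by
  let _ := φ.toAlgebra
  obtain ⟨e⟩ := bc_equiv h
  exact Module.Finite.equiv e

theorem bc_projective (h : CohqA.BaseChangeMod.IsBC φ θ) [Module.Projective A M] : Module.Projective B N := by
  let _ := φ.toAlgebra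
  obtain ⟨e⟩ := bc_equiv h
  exact Module.Projective.of_equiv e

theorem bc_flat (h : CohqA.BaseChangeMod.IsBC φ θ) [Module.Flat A M] : Module.Flat B N := by
  let _ := φ.toAlgebra
  obtain ⟨e⟩ := bc_equiv h
  exact Module.Flat.of_linearEquiv e.symm

/-- A base change map along a bijective ring map can be inverted. -/
theorem bc_symm (h : CohqA.BaseChangeMod.IsBC φ θ) (hφ : Function.Bijective φ) :
    ∃ (ψ : B →+* A) (θ' : N →+ M), CohqA.BaseChangeMod.IsBC ψ θ' := by
  let _ := φ.toAlgebra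
  let e := RingEquiv.ofBijective φ hφ
  have hθ : Function.Bijective θ := by
    obtain ⟨N', _, _, f, hf⟩ : ∃ (N' : Type u) (_ : AddCommGroup N') (_ : Module B N') (f : M →+ N'),
        CohqA.BaseChangeMod.IsBC φ f ∧ Function.Bijective f := by
      let _ : Module B M := Module.compHom M (e.symm : B →+* A)
      refine ⟨M, inferInstance, inferInstance, AddMonoidHom.id M, ?_, Function.bijective_id⟩
      refine CohqA.BaseChangeMod.IsBC.of_bijective φ hφ _ Function.bijective_id fun r x => ?_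
      change r • x = e.symm (e r) • x
      rw [e.symm_apply_apply]
    obtain ⟨k, hk⟩ := hf.1.exists_equiv h
    have : (θ : M → N) = k ∘ f := funext fun x => (hk x).symm
    rw [this]
    exact k.bijective.comp hf.2
  let t := AddEquiv.ofBijective θ hθ
  refine ⟨(e.symm : B →+* A), (t.symm : N →+ M), ?_⟩
  refine CohqA.BaseChangeMod.IsBC.of_bijective _ e.symm.bijective _ t.symm.bijective fun r x => ?_
  change t.symm (r • x) = e.symm r • t.symm x
  rw [AddEquiv.symm_apply_eq]
  change _ = θ (e.symm r • t.symm x)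
  rw [h.map_smul]
  have h1 : φ (e.symm r) = r := e.apply_symm_apply r
  have h2 : θ (t.symm x) = x := t.apply_symm_apply x
  rw [h1, h2]

end Alg

section Twist

variable {X Y : Scheme.{u}}

/-- Transport of twists. -/
theorem nonempty_twist_congr {F F' L L' : X.Modules} (e : F ≅ F') (e' : L ≅ L') (n : ℕ) :
    Nonempty (CohB1.tensorMod F (CohB1.tensorPow L n) ≅ CohB1.tensorMod F' (CohB1.tensorPow L' n)) :=
  ⟨Ega2.Tens.mapTIso e (Ega2.TensPow.powIso e' n)⟩

theorem nonempty_pull_twist (g : Y ⟶ X) {F L : X.Modules} (hL : PicF.IsInvertible L) {F' L' : Y.Modules}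
    (e : (Scheme.Modules.pullback g).obj F ≅ F') (e' : (Scheme.Modules.pullback g).obj L ≅ L') (n : ℕ) :
    Nonempty ((Scheme.Modules.pullback g).obj (CohB1.tensorMod F (CohB1.tensorPow L n)) ≅
      CohB1.tensorMod F' (CohB1.tensorPow L' n)) := by
  obtain ⟨a⟩ := CohqB.PullTwist471.nonempty_pull_twist g F hL n
  obtain ⟨b⟩ := nonempty_twist_congr e e' n
  exact ⟨a ≪≫ b⟩

end Twist

section Chart

variable {X S T : Scheme.{u}}

theorem isAmple_pullback_of_relAmple {f : X ⟶ S} {L : X.Modules} (hL : RelAmple.IsRelAmple f L) (g : T ⟶ S)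
    [IsAffine T] : CohB1.IsAmple ((Scheme.Modules.pullback (pullback.fst f g)).obj L) := by
  have := hL.1
  exact Ega2.RelAmp.isRelAmple_iff_isAmple.1 (Ega2.RelAmp.relAmple_baseChange f g L hL)

/-- The chart at an affine open: sections over `f ⁻¹ V` and global sections of the pull-back. -/
theorem chart_bc (f : X ⟶ S) [QuasiCompact f] [QuasiSeparated f] {V : S.Opens} (hV : IsAffineOpen V) {M : X.Modules}
    (hM : Coh.IsQCoh M) :
    ∃ (φ : Γ(S, V) →+* Γ(Spec Γ(S, V), ⊤)) (θ : Γ(M, f ⁻¹ᵁ V) →+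
        Γ((Scheme.Modules.pullback (pullback.fst f hV.fromSpec)).obj M, ⊤)), Function.Bijective φ ∧
      (letI : Module Γ(S, V) Γ(M, f ⁻¹ᵁ V) := Module.compHom _ (f.app V).hom
       letI := mS (pullback.snd f hV.fromSpec) ((Scheme.Modules.pullback (pullback.fst f hV.fromSpec)).obj M)
       CohqA.BaseChangeMod.IsBC φ θ) := by
  have H : IsPullback (pullback.fst f hV.fromSpec) (pullback.snd f hV.fromSpec) f hV.fromSpec :=
    IsPullback.of_hasPullback _ _
  have hV1 : (⊤ : (Spec Γ(S, V)).Opens) ≤ hV.fromSpec ⁻¹ᵁ V := hV.fromSpec_preimage_self.ge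
  have hg1 : (⊤ : (pullback f hV.fromSpec).Opens) ≤ (pullback.fst f hV.fromSpec) ⁻¹ᵁ (f ⁻¹ᵁ V) := by
    rw [← Scheme.Hom.comp_preimage, pullback.condition, Scheme.Hom.comp_preimage, hV.fromSpec_preimage_self]
    simp
  have hc : IsCompact (X := X) (f ⁻¹ᵁ V) := f.isCompact_preimage hV.isCompact
  have hqs : IsQuasiSeparated (α := X) (f ⁻¹ᵁ V) := Scheme.Hom.isQuasiSeparated_preimage f hV.isQuasiSeparated
  have h := isBC_of_isQuasiSeparated H M hM (US := V) (UT := ⊤) hV1 (UX := f ⁻¹ᵁ V) le_rfl (UY := ⊤)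
    (by rw [top_le_iff.1 hg1]; simp) hg1 le_top hV (isAffineOpen_top _) hc hqs
  let i1 := algOver hV.fromSpec hV1
  let i2 := modOver f M (US := V) (UX := f ⁻¹ᵁ V) le_rfl
  let i3 := mS (pullback.snd f hV.fromSpec) ((Scheme.Modules.pullback (pullback.fst f hV.fromSpec)).obj M)
  let i4 : Module Γ(S, V) Γ((Scheme.Modules.pullback (pullback.fst f hV.fromSpec)).obj M, ⊤) :=
    Module.compHom _ (algebraMap Γ(S, V) Γ(Spec Γ(S, V), ⊤))
  have i5 : IsScalarTower Γ(S, V) Γ(Spec Γ(S, V), ⊤) Γ((Scheme.Modules.pullback (pullback.fst f hV.fromSpec)).obj M, ⊤) :=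
    ⟨fun a b c => by rw [Algebra.smul_def, mul_smul]; rfl⟩
  let s := secS H.w M (US := V) (UT := ⊤) hV1 (UX := f ⁻¹ᵁ V) le_rfl (UY := ⊤) hg1 le_top
  let θ : Γ(M, f ⁻¹ᵁ V) →ₗ[Γ(S, V)] Γ((Scheme.Modules.pullback (pullback.fst f hV.fromSpec)).obj M, ⊤) :=
    { toFun := s, map_add' := map_add s, map_smul' := fun r m => map_smulₛₗ s r m }
  have h1 := isBC_iff_isBaseChange (A := Γ(S, V)) (B := Γ(Spec Γ(S, V), ⊤)) θ
  have h2 := isBaseChange_iff θ s (fun _ => rfl)
  have h3 := (h1.trans h2).2 h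
  refine ⟨algebraMap Γ(S, V) Γ(Spec Γ(S, V), ⊤), θ.toAddMonoidHom, ?_, ?_⟩
  · change Function.Bijective (hV.fromSpec.appLE V ⊤ hV1)
    have h4 : ∀ (W : (Spec Γ(S, V)).Opens) (hW : W = ⊤) (h : (⊤ : (Spec Γ(S, V)).Opens) ≤ W),
        IsIso ((Spec Γ(S, V)).presheaf.map (homOfLE h).op) := by
      rintro W rfl h
      rw [show (homOfLE h).op = 𝟙 _ from rfl]
      infer_instance
    have : IsIso (hV.fromSpec.appLE V ⊤ hV1) := by
      rw [Scheme.Hom.appLE, hV.fromSpec_app_self]
      have := h4 _ hV.fromSpec_preimage_self hV1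
      infer_instance
    exact (ConcreteCategory.isIso_iff_bijective _).1 this
  · rw [← Scheme.Hom.appLE_eq_app f]
    exact h3

end Chart

end K425.Chart
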