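import Groth.Agent.Variety.K425.SecBC
import Groth.Agent.LoccohB.HHmap
import Groth.Agent.PerfB.TensExact
import Groth.Agent.PerfA.CohSerre
import Groth.Agent.CohqB.HSeqMod
import Groth.Agent.Ega3B.SectExact
import Groth.Agent.Ega3B.AcycNbhd
import Groth.Agent.FormalB.TrSys
import Groth.Agent.FormalB.PullCoh
import Groth.Agent.Ega3B.CohTensor
import Groth.Agent.S0051

/-!
# Base change of the global sections of large twists along a principal closed immersion
-/

set_option autoImplicit false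
universe u
open CategoryTheory CategoryTheory.Limits AlgebraicGeometry TopologicalSpace

namespace K425.QuotBC

open Groth.Agent Groth.Agent.VarietyB.PullSec Groth.Agent.VarietyB.FlatH0 Groth.Agent.VarietyB.BCAlg
open Groth.Agent.CohqA.BaseChangeMod (isBC_iff_isBaseChange)
open K425.SecBC
open Groth.Agent.LoccohB.HHmap (smulHom smulHom_app smulHom_comp)

section Alg

variable {A B : Type u} [CommRing A] [CommRing B] {φ : A →+* B} {M N : Type u}
    [AddCommGroup M] [AddCommGroup N] [Module A M] [Module B N] {θ : M →+ N}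

theorem bc_surjective (hφ : Function.Surjective φ) (h : CohqA.BaseChangeMod.IsBC φ θ) :
    Function.Surjective θ := by
  let _ := φ.toAlgebra
  let _ : Module A N := Module.compHom N φ
  have : IsScalarTower A B N := ⟨fun a b c => by
      change (φ a * b) • c = φ a • b • c
      rw [mul_smul]⟩
  have h' : IsBaseChange B ({ toFun := θ, map_add' := θ.map_add, map_smul' := h.map_smul } : M →ₗ[A] N) :=
    (isBC_iff_isBaseChange _).1 h
  intro y
  obtain ⟨t, rfl⟩ := h'.equiv.surjective y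
  induction t using TensorProduct.induction_on with
  | zero => exact ⟨0, by rw [map_zero, map_zero]⟩
  | tmul r m =>
    obtain ⟨a, rfl⟩ := hφ r
    refine ⟨a • m, ?_⟩
    rw [IsBaseChange.equiv_tmul]
    exact h.map_smul a m
  | add x y hx hy =>
    obtain ⟨a, ha⟩ := hx
    obtain ⟨b, hb⟩ := hy
    exact ⟨a + b, by rw [map_add, map_add, ha, hb]⟩

theorem bc_mem_ker (hφ : Function.Surjective φ) (h : CohqA.BaseChangeMod.IsBC φ θ) (x : M) (hx : θ x = 0) :
    x ∈ RingHom.ker φ • (⊤ : Submodule A M) := by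
  let q : M →ₗ[A] (M ⧸ (RingHom.ker φ • (⊤ : Submodule A M))) := Submodule.mkQ _
  let e : (A ⧸ RingHom.ker φ) ≃+* B := RingHom.quotientKerEquivOfSurjective hφ
  let i1 : Module B (M ⧸ (RingHom.ker φ • (⊤ : Submodule A M))) :=
    Module.compHom _ (e.symm : B →+* (A ⧸ RingHom.ker φ))
  have hsm : ∀ (a : A) (y : M ⧸ (RingHom.ker φ • (⊤ : Submodule A M))), φ a • y = a • y := by
    intro a y
    change (e.symm (φ a)) • y = a • y
    have : e.symm (φ a) = Ideal.Quotient.mk _ a := by
      rw [RingEquiv.symm_apply_eq]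
      rfl
    rw [this]
    rfl
  obtain ⟨q', hq', -⟩ := h.lift (M ⧸ (RingHom.ker φ • (⊤ : Submodule A M))) q.toAddMonoidHom (fun r y => by
    rw [hsm]
    exact q.map_smul r y)
  have h1 : q' (θ x) = q x := hq' x
  rw [hx, map_zero] at h1
  exact (Submodule.Quotient.mk_eq_zero _).1 h1.symm

theorem bc_of_surjective (hφ : Function.Surjective φ) (hθ : Function.Surjective θ)
    (hsmul : ∀ (r : A) (x : M), θ (r • x) = φ r • θ x)
    (hker : ∀ x, θ x = 0 → x ∈ RingHom.ker φ • (⊤ : Submodule A M)) :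
    CohqA.BaseChangeMod.IsBC φ θ := by
  refine ⟨hsmul, fun Q _ _ g hg => ?_⟩
  have hg0 : ∀ x, θ x = 0 → g x = 0 := by
    intro x hx
    refine Submodule.smul_induction_on (hker x hx) (fun r hr n _ => ?_) (fun a b ha hb => ?_)
    · rw [hg, (RingHom.mem_ker).1 hr, zero_smul]
    · rw [map_add, ha, hb, add_zero]
  have hgc : ∀ x y, θ x = θ y → g x = g y := by
    intro x y hxy
    have := hg0 (x - y) (by rw [map_sub, hxy, sub_self])
    rwa [map_sub, sub_eq_zero] at this
  let t : N → M := Function.surjInv hθ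
  have ht : ∀ n, θ (t n) = n := Function.surjInv_eq hθ
  let g' : N →ₗ[B] Q :=
    { toFun := fun n => g (t n)
      map_add' := fun a b => by
        rw [← map_add]
        exact hgc _ _ (by rw [map_add, ht, ht, ht])
      map_smul' := fun b n => by
        obtain ⟨a, rfl⟩ := hφ b
        change g (t (φ a • n)) = φ a • g (t n)
        rw [← hg]
        exact hgc _ _ (by rw [hsmul, ht, ht]) }
  refine ⟨g', fun x => hgc _ _ (ht _), fun g'' h'' => ?_⟩
  ext n
  rw [← ht n, h'']
  exact (hgc _ _ (ht _)).symm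

end Alg

section Geo

variable {X Y S T : Scheme.{u}} {g : Y ⟶ X} {iX : X ⟶ S} {iY : Y ⟶ T} {f : T ⟶ S}

/-- The unit `M ⟶ g_* g^* M`. -/
noncomputable abbrev un (g : Y ⟶ X) (M : X.Modules) :
    M ⟶ (Scheme.Modules.pushforward g).obj ((Scheme.Modules.pullback g).obj M) :=
  (Scheme.Modules.pullbackPushforwardAdjunction g).unit.app M

theorem un_app (M : X.Modules) (U : X.Opens) (s : Γ(M, U)) :
    (un g M).app U s = sec g M (U := U) (V := g ⁻¹ᵁ U) le_rfl s := by
  rw [Fga.SecComp.sec_eq]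
  exact (Ega1.SubSheaf.res_self ((Scheme.Modules.pullback g).obj M) (le_refl (g ⁻¹ᵁ U)) _).symm

/-- the function on `X` -/
noncomputable abbrev fX (iX : X ⟶ S) (a : Γ(S, ⊤)) : Γ(X, ⊤) := rS iX a

theorem appLE_fX (w : g ≫ iX = iY ≫ f) (a : Γ(S, ⊤)) (ha : rS f a = 0) {U : X.Opens} {V : Y.Opens}
    (e : V ≤ g ⁻¹ᵁ U) : g.appLE U V e (X.presheaf.map (homOfLE (le_top : U ≤ ⊤)).op (fX iX a)) = 0 := by
  have h1 : g.appLE U V e (X.presheaf.map (homOfLE (le_top : U ≤ ⊤)).op (fX iX a)) =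
      g.appLE ⊤ V le_top (fX iX a) := by
    have := Scheme.Hom.map_appLE g e (homOfLE (le_top : U ≤ ⊤)).op
    exact congr($this _)
  rw [h1]
  have h2 : g.appLE ⊤ V le_top (fX iX a) = (g ≫ iX).appLE ⊤ V le_top a := by
    have := Scheme.Hom.appLE_comp_appLE g iX ⊤ ⊤ V le_top le_top
    exact congr($this a)
  have h3 : (g ≫ iX).appLE ⊤ V le_top a = iY.appLE ⊤ V le_top (rS f a) := by
    rw [show (g ≫ iX).appLE ⊤ V le_top = (iY ≫ f).appLE ⊤ V le_top by simp only [w]]
    have := Scheme.Hom.appLE_comp_appLE iY f ⊤ ⊤ V le_top le_top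
    exact (congr($this a)).symm
  rw [h2, h3, ha, map_zero]

theorem smulHom_un (w : g ≫ iX = iY ≫ f) (a : Γ(S, ⊤)) (ha : rS f a = 0) (M : X.Modules) :
    smulHom M (fX iX a) ≫ un g M = 0 := by
  apply Scheme.Modules.hom_ext
  intro U
  ext s
  change (un g M).app U (X.presheaf.map (homOfLE (le_top : U ≤ ⊤)).op (fX iX a) • s) = 0
  rw [un_app, sec_smul, appLE_fX w a ha, zero_smul]
  rfl

variable [IsAffine S] [IsAffine T]

theorem affine_bc (H : IsPullback g iY iX f) (M : X.Modules) (hM : Coh.IsQCoh M) {U : X.Opens} (hU : IsAffineOpen U) :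
    letI := modOver iX M (US := ⊤) (UX := U) le_top
    letI := modOver iY ((Scheme.Modules.pullback g).obj M) (US := ⊤) (UX := g ⁻¹ᵁ U) le_top
    CohqA.BaseChangeMod.IsBC (rS f) (sec g M (U := U) (V := g ⁻¹ᵁ U) le_rfl) := by
  have h := isBC_affine H M hM (US := ⊤) (UT := ⊤) le_top (UX := U) le_top (UY := g ⁻¹ᵁ U) (by simp)
    le_rfl le_top (isAffineOpen_top S) (isAffineOpen_top T) hU
  let i1 := algOver f (US := ⊤) (UT := ⊤) le_top
  let i2 := modOver iX M (US := ⊤) (UX := U) le_top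
  let i3 := modOver iY ((Scheme.Modules.pullback g).obj M) (US := ⊤) (UX := g ⁻¹ᵁ U) le_top
  let i4 : Module Γ(S, ⊤) Γ((Scheme.Modules.pullback g).obj M, g ⁻¹ᵁ U) := Module.compHom _ (algebraMap Γ(S, ⊤) Γ(T, ⊤))
  have i5 : IsScalarTower Γ(S, ⊤) Γ(T, ⊤) Γ((Scheme.Modules.pullback g).obj M, g ⁻¹ᵁ U) :=
    ⟨fun a b c => by rw [Algebra.smul_def, mul_smul]; rfl⟩
  let s := secS H.w M (US := ⊤) (UT := ⊤) le_top (UX := U) le_top (UY := g ⁻¹ᵁ U) le_rfl le_top
  let θ : Γ(M, U) →ₗ[Γ(S, ⊤)] Γ((Scheme.Modules.pullback g).obj M, g ⁻¹ᵁ U) :=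
    { toFun := s, map_add' := map_add s, map_smul' := fun r m => map_smulₛₗ s r m }
  have h1 := isBC_iff_isBaseChange (A := Γ(S, ⊤)) (B := Γ(T, ⊤)) θ
  have h2 := isBaseChange_iff θ s (fun _ => rfl)
  exact (h1.trans h2).2 h

theorem epi_un (H : IsPullback g iY iX f) (hs : Function.Surjective (rS f)) (M : X.Modules) (hM : Coh.IsQCoh M) :
    Epi (un g M) := by
  refine FormalB.SysSect.epi_of_affine _ fun U hU y => ?_
  let i2 := modOver iX M (US := ⊤) (UX := U) le_top
  let i3 := modOver iY ((Scheme.Modules.pullback g).obj M) (US := ⊤) (UX := g ⁻¹ᵁ U) le_top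
  obtain ⟨x, hx⟩ := bc_surjective hs (affine_bc H M hM hU) y
  exact ⟨x, (un_app M U x).trans hx⟩

theorem exact_un (H : IsPullback g iY iX f) (hs : Function.Surjective (rS f)) (a : Γ(S, ⊤))
    (ha : RingHom.ker (rS f) = Ideal.span {a}) (M : X.Modules) (hM : Coh.IsQCoh M)
    (w : smulHom M (fX iX a) ≫ un g M = 0) :
    (ShortComplex.mk (smulHom M (fX iX a)) (un g M) w).Exact := by
  refine FormalB.TrSys.exact_of_affine _ _ w fun U hU y hy => ?_
  let i2 := modOver iX M (US := ⊤) (UX := U) le_top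
  let i3 := modOver iY ((Scheme.Modules.pullback g).obj M) (US := ⊤) (UX := g ⁻¹ᵁ U) le_top
  have h1 := bc_mem_ker hs (affine_bc H M hM hU) y ((un_app M U y).symm.trans hy)
  rw [ha, Submodule.ideal_span_singleton_smul] at h1
  obtain ⟨x, -, hx⟩ := h1
  refine ⟨x, Eq.trans ?_ hx⟩
  change X.presheaf.map (homOfLE (le_top : U ≤ ⊤)).op (fX iX a) • x = iX.appLE ⊤ U le_top a • x
  have := Scheme.Hom.appLE_map iX (U := ⊤) (V := ⊤) le_top (homOfLE (le_top : U ≤ ⊤)).op
  exact congrArg (· • x) congr($this a)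

end Geo

section Serre

variable {X S : Scheme.{u}} [IsAffine S] [IsLocallyNoetherian S]

/-- Serre vanishing over an affine Noetherian scheme. -/
theorem serre (iX : X ⟶ S) [IsProper iX] {L : X.Modules} (hL : CohB1.IsAmple L) {F : X.Modules} (hF : Coh.IsCoh F) :
    ∃ N : ℕ, ∀ n, N ≤ n → ∀ p : ℕ, 0 < p →
      Subsingleton (Coh.HH X (CohB1.tensorMod F (CohB1.tensorPow L n)) p) := by
  have := Ega3B.AcycNbhd.isNoetherianRing S
  exact (S0051.result Γ(S, ⊤) X (iX ≫ S.isoSpec.hom) L hL.1).1 hL F hF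

end Serre

section Main

variable {X Y S T : Scheme.{u}} {g : Y ⟶ X} {iX : X ⟶ S} {iY : Y ⟶ T} {f : T ⟶ S}

theorem smulHom_tensor (M N : X.Modules) (r : Γ(X, ⊤)) :
    (DCoh.tensorRightMod N).map (smulHom M r) = smulHom (CohB1.tensorMod M N) r := by
  rw [PerfB.TensExact.tensorRightMod_map_eq]
  refine Ega2.Tens.hom_ext _ _ fun U m n => ?_
  rw [Ega2.Tens.mapT_tmul]
  change Ega2.Tens.tmul (X.presheaf.map (homOfLE (le_top : U ≤ ⊤)).op r • m) n =
    X.presheaf.map (homOfLE (le_top : U ≤ ⊤)).op r • Ega2.Tens.tmul m n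
  exact Ega2.Tens.smul_tmul _ _ _

/-- `H^p` of a twist of the kernel. -/
theorem kernel_twist_vanish {F N : X.Modules} (hN : PicF.IsInvertible N) (r : Γ(X, ⊤)) (p : ℕ)
    (h : Subsingleton (Coh.HH X (CohB1.tensorMod (kernel (smulHom F r)) N) p)) :
    Subsingleton (Coh.HH X (kernel (smulHom (CohB1.tensorMod F N) r)) p) := by
  have hlim := Ega3B.SectExact.preservesFiniteLimits_tensorRightMod (Ega3B.SectExact.isFlat_of_isInvertible hN)
  let e : (DCoh.tensorRightMod N).obj (kernel (smulHom F r)) ≅ kernel ((DCoh.tensorRightMod N).map (smulHom F r)) :=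
    PreservesKernel.iso (DCoh.tensorRightMod N) (smulHom F r)
  exact Ega3B.AcycNbhd.subsingleton_HH_of_iso (e ≪≫ kernelIsoOfEq (smulHom_tensor F N r)) p h

theorem un_top (g : Y ⟶ X) (M : X.Modules) (t : Γ(M, ⊤)) :
    (un g M).app ⊤ t = sec g M (U := ⊤) (V := ⊤) le_top t := un_app M ⊤ t

theorem vanish_ker_un (M : X.Modules) (r : Γ(X, ⊤)) (w : smulHom M r ≫ un g M = 0)
    (hex : (ShortComplex.mk (smulHom M r) (un g M) w).Exact)
    (h1 : Subsingleton (Coh.HH X M 1)) (hk2 : Subsingleton (Coh.HH X (kernel (smulHom M r)) 2)) :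
    Subsingleton (Coh.HH X (kernel (un g M)) 1) := by
  have hepi' : Epi (kernel.lift (un g M) (smulHom M r) w) := hex.epi_kernelLift
  let C : ShortComplex X.Modules := ShortComplex.mk (kernel.ι (smulHom M r))
    (kernel.lift (un g M) (smulHom M r) w) (by rw [← cancel_mono (kernel.ι (un g M))]; simp)
  have hC : C.ShortExact := by
    have : Mono C.f := inferInstanceAs (Mono (kernel.ι (smulHom M r)))
    have : Epi C.g := hepi'
    refine ShortComplex.ShortExact.mk (ShortComplex.exact_of_f_is_kernel _ ?_)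
    exact KernelFork.IsLimit.ofι' _ _ (fun {W} k hk => ⟨kernel.lift (smulHom M r) k (by
      have : k ≫ kernel.lift (un g M) (smulHom M r) w ≫ kernel.ι (un g M) = 0 := by
        rw [← Category.assoc]
        change (k ≫ C.g) ≫ _ = 0
        rw [hk, zero_comp]
      simpa using this), kernel.lift_ι _ _ _⟩)
  refine subsingleton_of_forall_eq 0 fun x => ?_
  obtain ⟨y, hy⟩ := CohqB.HSeqMod.exact₃ hC 1 x (Subsingleton.elim (h := hk2) _ _)
  rw [← hy, show y = 0 from Subsingleton.elim (h := h1) _ _, map_zero]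

theorem surj_un (M : X.Modules) (hepi : Epi (un g M)) (hku : Subsingleton (Coh.HH X (kernel (un g M)) 1))
    (y : Γ((Scheme.Modules.pushforward g).obj ((Scheme.Modules.pullback g).obj M), ⊤)) :
    ∃ t : Γ(M, ⊤), (un g M).app ⊤ t = y := by
  let D : ShortComplex X.Modules := ShortComplex.mk (kernel.ι (un g M)) (un g M) (kernel.condition _)
  have hD : D.ShortExact := by
    have : Mono D.f := inferInstanceAs (Mono (kernel.ι (un g M)))
    have : Epi D.g := hepi
    exact ShortComplex.ShortExact.mk (ShortComplex.exact_of_f_is_kernel _ (kernelIsKernel _))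
  exact Ega3B.SectExact.surjective_of_H1 hD hku y

/-- Base change along a principal closed immersion, from vanishing. -/
theorem sbc_of_vanish [IsAffine S] [IsAffine T] (H : IsPullback g iY iX f) (hs : Function.Surjective (rS f))
    (a : Γ(S, ⊤)) (ha : RingHom.ker (rS f) = Ideal.span {a}) (M : X.Modules) (hM : Coh.IsQCoh M)
    (h1 : Subsingleton (Coh.HH X M 1))
    (hk1 : Subsingleton (Coh.HH X (kernel (smulHom M (fX iX a))) 1))
    (hk2 : Subsingleton (Coh.HH X (kernel (smulHom M (fX iX a))) 2)) : SBC H.w M := by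
  have ha0 : rS f a = 0 := by
    have : a ∈ RingHom.ker (rS f) := by rw [ha]; exact Ideal.mem_span_singleton_self a
    exact this
  have w := smulHom_un H.w a ha0 M
  have hex := exact_un H hs a ha M hM w
  have hepi := epi_un H hs M hM
  have hku := vanish_ker_un M (fX iX a) w hex h1 hk2
  let i1 := mS iX M
  let i2 := mS iY ((Scheme.Modules.pullback g).obj M)
  have k1 : Function.Surjective (sec g M (U := ⊤) (V := ⊤) le_top) := fun y => by
    obtain ⟨t, ht⟩ := surj_un M hepi hku y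
    exact ⟨t, (un_top g M t).symm.trans ht⟩
  have k2 : ∀ x, sec g M (U := ⊤) (V := ⊤) le_top x = 0 →
      x ∈ RingHom.ker (rS f) • (⊤ : Submodule Γ(S, ⊤) Γ(M, ⊤)) := by
    intro x hx
    obtain ⟨t, ht⟩ := Ega3B.SectExact.exact_of_H1 hex hk1 x ((un_top g M x).trans hx)
    have ht' : x = iX.appLE ⊤ ⊤ le_top a • t := by
      rw [← ht]
      change X.presheaf.map (homOfLE (le_top : ⊤ ≤ ⊤)).op (fX iX a) • t = iX.appLE ⊤ ⊤ le_top a • t
      have := Scheme.Hom.appLE_map iX (U := ⊤) (V := ⊤) le_top (homOfLE (le_top : (⊤ : X.Opens) ≤ ⊤)).op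
      exact congrArg (· • t) congr($this a)
    rw [ht']
    exact Submodule.smul_mem_smul (r := a) (n := t) (by rw [ha]; exact Ideal.mem_span_singleton_self a) trivial
  exact bc_of_surjective hs k1 (fun r x => sec_smulS H.w M r x) k2

/-- Base change of the sections of large twists along a principal closed immersion. -/
theorem sbc_principal [IsAffine S] [IsLocallyNoetherian S] [IsAffine T] [IsProper iX] (f : T ⟶ S)
    (hs : Function.Surjective (rS f))
    (a : Γ(S, ⊤)) (ha : RingHom.ker (rS f) = Ideal.span {a}) {L : X.Modules} (hL : CohB1.IsAmple L)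
    {F : X.Modules} (hF : Coh.IsCoh F) :
    ∃ N : ℕ, ∀ n, N ≤ n → ∀ {Y : Scheme.{u}} {g : Y ⟶ X} {iY : Y ⟶ T} (H : IsPullback g iY iX f),
      SBC H.w (CohB1.tensorMod F (CohB1.tensorPow L n)) := by
  have : IsLocallyNoetherian X := LocallyOfFiniteType.isLocallyNoetherian iX
  have hK : Coh.IsCoh (kernel (smulHom F (fX iX a))) := PerfA.CohSerre.isCoh_kernel _ hF hF.1
  obtain ⟨N₁, h₁⟩ := serre iX hL hF
  obtain ⟨N₂, h₂⟩ := serre iX hL hK
  refine ⟨max N₁ N₂, fun n hn Y g iY H => ?_⟩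
  have hn1 := (le_max_left _ _).trans hn
  have hn2 := (le_max_right _ _).trans hn
  have hinv : PicF.IsInvertible (CohB1.tensorPow L n) := Fdesc.LocGen.isInvertible_tensorPow hL.1 n
  refine sbc_of_vanish H hs a ha _ (Ega3B.CohTensor.isCoh_tensor hF hinv).1 (h₁ n hn1 1 one_pos) ?_ ?_
  · exact kernel_twist_vanish hinv _ 1 (h₂ n hn2 1 one_pos)
  · exact kernel_twist_vanish hinv _ 2 (h₂ n hn2 2 two_pos)

end Main

end K425.QuotBC
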