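import Groth.Prelude.Def_Curv2
import Groth.Prelude.Def_PerfAux
import Groth.Agent.S1528
import Groth.Agent.S1026
import Groth.Agent.S0403
import Groth.Agent.S1333
import Groth.Agent.CohqB.PullTwist471
import Groth.Agent.VarietyA.EulerAdd
import Groth.Agent.Ega3B.FlatTensInv
import Groth.Agent.PerfC.FPSections
import Mathlib.Combinatorics.Nullstellensatz

/-!
# Euler characteristics of the fibres of twists

* `isFP_tensorPows`, `isFlatOver_tensorPows`, `nonempty_pull_tensorPows`;
* `exists_poly`: the Snapper polynomial of a fibre, with total degree bounded by the dimension of the fibre;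
* `eq_of_grid`: polynomials of bounded degree agreeing on a grid agree;
* `snapper_locallyConstant`: local constancy for flat families.
-/

set_option autoImplicit false
universe u

open CategoryTheory CategoryTheory.Limits AlgebraicGeometry

namespace K425.FibEuler

open Groth.Agent

variable {X Y S : Scheme.{u}}

theorem isFP_tensor {F L : X.Modules} (hF : CohB1.IsFP F) (hL : PicF.IsInvertible L) :
    CohB1.IsFP (CohB1.tensorMod F L) := by
  refine PerfC.FPSections.isFP_of_cover fun x => ?_
  obtain ⟨U, hx, ⟨e⟩⟩ := hL x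
  refine ⟨U, U.ι, inferInstance, ⟨x, hx⟩, rfl, ?_⟩
  have e1 : (CohB1.tensorMod F L).restrict U.ι ≅ F.restrict U.ι :=
    Ega3B.TensRestrict.restrictIso U.ι F L ≪≫
      Ega2.Tens.mapTIso (Iso.refl _) e ≪≫ Ega2.Tens.runit _
  exact PerfC.FPSections.isFP_of_iso e1.symm (PerfC.FPSections.isFP_restrict U.ι hF)

theorem isFP_tensorPow {F L : X.Modules} (hF : CohB1.IsFP F) (hL : PicF.IsInvertible L) (n : ℕ) :
    CohB1.IsFP (CohB1.tensorMod F (CohB1.tensorPow L n)) :=
  isFP_tensor hF (Fdesc.LocGen.isInvertible_tensorPow hL n)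

theorem isFP_tensorPows {F : X.Modules} (hF : CohB1.IsFP F) (r : ℕ) (L : Fin r → X.Modules)
    (hL : ∀ i, PicF.IsInvertible (L i)) (n : Fin r → ℕ) : CohB1.IsFP (Curv2.tensorPows F r L n) := by
  induction r with
  | zero => exact hF
  | succ r ih => exact isFP_tensorPow (ih _ (fun i => hL _) _) (hL _) _

theorem isFlatOver_tensorPow (f : X ⟶ S) {F L : X.Modules} (hL : PicF.IsInvertible L)
    (hF : FlatMod.IsFlatOver f F) (n : ℕ) :
    FlatMod.IsFlatOver f (CohB1.tensorMod F (CohB1.tensorPow L n)) :=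
  Ega3B.FlatTensInv.isFlatOver_tensor f (Fdesc.LocGen.isInvertible_tensorPow hL n) hF

theorem isFlatOver_tensorPows (f : X ⟶ S) {F : X.Modules} (hF : FlatMod.IsFlatOver f F) (r : ℕ)
    (L : Fin r → X.Modules) (hL : ∀ i, PicF.IsInvertible (L i)) (n : Fin r → ℕ) :
    FlatMod.IsFlatOver f (Curv2.tensorPows F r L n) := by
  induction r with
  | zero => exact hF
  | succ r ih => exact isFlatOver_tensorPow f (hL _) (ih _ (fun i => hL _) _) _

theorem nonempty_pull_tensorPows (f : X ⟶ Y) (F : Y.Modules) (r : ℕ) (L : Fin r → Y.Modules)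
    (hL : ∀ i, PicF.IsInvertible (L i)) (n : Fin r → ℕ) :
    Nonempty ((Scheme.Modules.pullback f).obj (Curv2.tensorPows F r L n) ≅
      Curv2.tensorPows ((Scheme.Modules.pullback f).obj F) r
        (fun i => (Scheme.Modules.pullback f).obj (L i)) n) := by
  induction r with
  | zero => exact ⟨Iso.refl _⟩
  | succ r ih =>
    obtain ⟨e⟩ := ih (fun i => L i.castSucc) (fun i => hL _) (fun i => n i.castSucc)
    obtain ⟨e'⟩ := CohqB.PullTwist471.nonempty_pull_twist f
      (Curv2.tensorPows F r (fun i => L i.castSucc) (fun i => n i.castSucc)) (hL (Fin.last r)) (n (Fin.last r))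
    exact ⟨e' ≪≫ Ega2.Tens.mapTIso e (Iso.refl _)⟩

/-- Polynomials in `r` variables of total degree at most `d` which agree on `{0, …, d}^r` agree. -/
theorem eq_of_grid (r d : ℕ) (P Q : MvPolynomial (Fin r) ℚ) (hP : P.totalDegree ≤ d) (hQ : Q.totalDegree ≤ d)
    (h : ∀ n : Fin r → ℕ, (∀ i, n i ≤ d) → MvPolynomial.eval (fun i => (n i : ℚ)) P =
      MvPolynomial.eval (fun i => (n i : ℚ)) Q) : P = Q := by
  classical
  rw [← sub_eq_zero]
  refine MvPolynomial.eq_zero_of_eval_zero_at_prod_finset (P - Q)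
    (fun _ => (Finset.range (d + 1)).image (Nat.cast : ℕ → ℚ)) (fun i => ?_) (fun x hx => ?_)
  · rw [Finset.card_image_of_injective _ Nat.cast_injective, Finset.card_range]
    refine lt_of_le_of_lt (MvPolynomial.degreeOf_le_totalDegree _ _) ?_
    exact lt_of_le_of_lt (MvPolynomial.totalDegree_sub _ _) (by omega)
  · choose n hn hx using fun i => Finset.mem_image.1 (hx i)
    have : x = fun i => (n i : ℚ) := funext fun i => (hx i).symm
    rw [this, map_sub, sub_eq_zero]
    exact h n fun i => by have := Finset.mem_range.1 (hn i); omega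

variable (f : X ⟶ S) [IsProper f]

/-- The Snapper polynomial of a fibre. -/
theorem exists_poly (F : X.Modules) (hF : CohB1.IsFP F) (r : ℕ) (L : Fin r → X.Modules)
    (hL : ∀ i, PicF.IsInvertible (L i)) (s : S) (d : ℕ) (hd : topologicalKrullDim (f.fiber s) ≤ d) :
    ∃ P : MvPolynomial (Fin r) ℚ, P.totalDegree ≤ d ∧ ∀ n : Fin r → ℕ,
      (PerfAux.eulerChar f (Curv2.tensorPows F r L n) s : ℚ) = MvPolynomial.eval (fun i => (n i : ℚ)) P := by
  let _ : (f.fiber s).Over (Spec (CommRingCat.of (S.residueField s))) := ⟨f.fiberToSpecResidueField s⟩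
  have : IsProper ((f.fiber s) ↘ (Spec (CommRingCat.of (S.residueField s)))) :=
    inferInstanceAs (IsProper (pullback.snd f (S.fromSpecResidueField s)))
  have hF' : Coh.IsCoh ((Scheme.Modules.pullback (f.fiberι s)).obj F) :=
    Models2.FPCoh.isCoh_of_isFP (FormalA.PullbackQC.isFP_pullback _ _ hF)
  obtain ⟨P, hP, hPn⟩ := S1528.result (S.residueField s) (f.fiber s) _ hF' d
    ((Topology.IsInducing.topologicalKrullDim_le Topology.IsInducing.subtypeVal).trans hd) r
    (fun i => (Scheme.Modules.pullback (f.fiberι s)).obj (L i))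
    (fun i => Fdesc.LocGen.isInvertible_pullback _ (hL i))
  refine ⟨P, hP, fun n => ?_⟩
  rw [← hPn n]
  obtain ⟨e⟩ := nonempty_pull_tensorPows (f.fiberι s) F r L hL n
  exact congrArg _ (VarietyA.EulerAdd.euler_congr (S.residueField s) e)

omit [IsProper f] in
theorem exists_dim_le [LocallyOfFiniteType f] [QuasiCompact f] (s : S) :
    ∃ d : ℕ, topologicalKrullDim (f.fiber s) ≤ d := by
  have h := S1333.dim_ne_top f s
  rcases hd : topologicalKrullDim (f.fiber s) with _ | (_ | n)
  · exact ⟨0, bot_le⟩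
  · exact absurd hd h
  · exact ⟨n, le_rfl⟩

/-- **Local constancy of the Snapper polynomial** for flat families. -/
theorem snapper_locallyConstant [LocallyOfFinitePresentation f] (F : X.Modules) (hF : CohB1.IsFP F)
    (hfl : FlatMod.IsFlatOver f F) (r : ℕ) (L : Fin r → X.Modules) (hL : ∀ i, PicF.IsInvertible (L i)) (s : S) :
    ∃ U : S.Opens, s ∈ U ∧ ∀ s' : S, s' ∈ U → ∀ n : Fin r → ℕ,
      PerfAux.eulerChar f (Curv2.tensorPows F r L n) s' = PerfAux.eulerChar f (Curv2.tensorPows F r L n) s := by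
  classical
  obtain ⟨d, hd⟩ := exists_dim_le f s
  have hlc : ∀ n : Fin r → ℕ, IsOpen {s' : S | PerfAux.eulerChar f (Curv2.tensorPows F r L n) s' =
      PerfAux.eulerChar f (Curv2.tensorPows F r L n) s} := fun n =>
    (S1026.result f _ (isFP_tensorPows hF r L hL n) (isFlatOver_tensorPows f hfl r L hL n)).isOpen_fiber _
  have hfin : (Set.pi Set.univ fun _ : Fin r => {m : ℕ | m ≤ d}).Finite :=
    Set.Finite.pi fun _ => Set.finite_le_nat d
  let U : S.Opens := ⟨{s' : S | topologicalKrullDim (f.fiber s') ≤ d} ∩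
      ⋂ n ∈ (Set.pi Set.univ fun _ : Fin r => {m : ℕ | m ≤ d}), {s' : S |
        PerfAux.eulerChar f (Curv2.tensorPows F r L n) s' =
        PerfAux.eulerChar f (Curv2.tensorPows F r L n) s},
    (S0403.result f d).inter (hfin.isOpen_biInter fun n _ => hlc n)⟩
  refine ⟨U, ⟨hd, by simp⟩, fun s' hs' => ?_⟩
  obtain ⟨P, hP, hPn⟩ := exists_poly f F hF r L hL s d hd
  obtain ⟨Q, hQ, hQn⟩ := exists_poly f F hF r L hL s' d hs'.1
  have hPQ : Q = P := by
    refine eq_of_grid r d Q P hQ hP fun n hn => ?_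
    rw [← hPn n, ← hQn n]
    have h := Set.mem_iInter₂.1 hs'.2 n (by simpa using hn)
    exact congrArg _ h
  intro n
  have : (PerfAux.eulerChar f (Curv2.tensorPows F r L n) s' : ℚ) =
      PerfAux.eulerChar f (Curv2.tensorPows F r L n) s := by rw [hQn n, hPn n, hPQ]
  exact_mod_cast this

end K425.FibEuler
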