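import Groth.Agent.Fga.SecComp
import Groth.Agent.CohqA.BaseChangeMod
import Groth.Agent.VarietyB.FlatH0
import Groth.Agent.Ega3B.AcyclicBC

/-!
# Base change of global sections, elementwise

`BC iX M iY N f θ`: `θ : Γ(M, ⊤) → Γ(N, ⊤)` exhibits `Γ(N, ⊤)` as `Γ(T, ⊤) ⊗ Γ(M, ⊤)`.
`SBC w M`: this holds for the pull-back of sections along the commutative square `w`.
-/

set_option autoImplicit false
universe u
open CategoryTheory CategoryTheory.Limits AlgebraicGeometry TopologicalSpace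

namespace K425.SecBC

open Groth.Agent Groth.Agent.VarietyB.PullSec Groth.Agent.VarietyB.FlatH0 Groth.Agent.VarietyB.BCAlg
open Groth.Agent.CohqA.BaseChangeMod (isBC_iff_isBaseChange)

variable {X Y Z S T R : Scheme.{u}}

/-- `Γ(M, ⊤)` as a `Γ(S, ⊤)`-module. -/
noncomputable abbrev mS (iX : X ⟶ S) (M : X.Modules) : Module Γ(S, ⊤) Γ(M, ⊤) :=
  modOver iX M (US := ⊤) (UX := ⊤) le_top

/-- The ring map on global functions. -/
noncomputable abbrev rS (f : T ⟶ S) : Γ(S, ⊤) →+* Γ(T, ⊤) := (f.appLE ⊤ ⊤ le_top).hom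

theorem rS_comp (h : R ⟶ T) (f : T ⟶ S) : rS (h ≫ f) = (rS h).comp (rS f) := by
  have := Scheme.Hom.appLE_comp_appLE h f ⊤ ⊤ ⊤ le_top le_top
  rw [rS, rS, rS, ← CommRingCat.hom_comp, this]

theorem rS_apply (f : T ⟶ S) (a : Γ(S, ⊤)) : rS f a = f.appTop a := by
  have : f.appLE ⊤ ⊤ le_top = f.appTop := Scheme.Hom.appLE_eq_app f (U := ⊤)
  exact congr($this a)

/-- `θ : Γ(M, ⊤) → Γ(N, ⊤)` is a base change map along `Γ(S, ⊤) → Γ(T, ⊤)`. -/
def BC (iX : X ⟶ S) (M : X.Modules) (iY : Y ⟶ T) (N : Y.Modules) (f : T ⟶ S) (θ : Γ(M, ⊤) →+ Γ(N, ⊤)) : Prop :=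
  letI := mS iX M
  letI := mS iY N
  CohqA.BaseChangeMod.IsBC (rS f) θ

/-- The base change property of the pull-back of global sections. -/
def SBC {g : Y ⟶ X} {iX : X ⟶ S} {iY : Y ⟶ T} {f : T ⟶ S} (_ : g ≫ iX = iY ≫ f) (M : X.Modules) : Prop :=
  BC iX M iY ((Scheme.Modules.pullback g).obj M) f (sec g M (U := ⊤) (V := ⊤) le_top)

theorem sbc_iff_isBC {g : Y ⟶ X} {iX : X ⟶ S} {iY : Y ⟶ T} {f : T ⟶ S} (w : g ≫ iX = iY ≫ f) (M : X.Modules) :
    SBC w M ↔ IsBC w M (US := ⊤) (UT := ⊤) le_top (UX := ⊤) le_top (UY := ⊤) le_top le_top := by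
  let i1 := algOver f (US := ⊤) (UT := ⊤) le_top
  let i2 := modOver iX M (US := ⊤) (UX := ⊤) le_top
  let i3 := modOver iY ((Scheme.Modules.pullback g).obj M) (US := ⊤) (UX := ⊤) le_top
  let i4 : Module Γ(S, ⊤) Γ((Scheme.Modules.pullback g).obj M, ⊤) := Module.compHom _ (algebraMap Γ(S, ⊤) Γ(T, ⊤))
  have i5 : IsScalarTower Γ(S, ⊤) Γ(T, ⊤) Γ((Scheme.Modules.pullback g).obj M, ⊤) :=
    ⟨fun a b c => by rw [Algebra.smul_def, mul_smul]; rfl⟩
  let s := secS w M (US := ⊤) (UT := ⊤) le_top (UX := ⊤) le_top (UY := ⊤) le_top le_top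
  let θ : Γ(M, ⊤) →ₗ[Γ(S, ⊤)] Γ((Scheme.Modules.pullback g).obj M, ⊤) :=
    { toFun := s, map_add' := map_add s, map_smul' := fun r m => map_smulₛₗ s r m }
  have h1 := isBC_iff_isBaseChange (A := Γ(S, ⊤)) (B := Γ(T, ⊤)) θ
  have h2 := isBaseChange_iff θ s (fun _ => rfl)
  exact h1.trans h2

/-- Composition. -/
theorem BC.comp_iff {iX : X ⟶ S} {M : X.Modules} {iY : Y ⟶ T} {N : Y.Modules} {f : T ⟶ S}
    {θ : Γ(M, ⊤) →+ Γ(N, ⊤)} (h : BC iX M iY N f θ) {iZ : Z ⟶ R} {P : Z.Modules} {f' : R ⟶ T}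
    {θ' : Γ(N, ⊤) →+ Γ(P, ⊤)}
    (hθ : letI := mS iY N; letI := mS iZ P; ∀ (r : Γ(T, ⊤)) (x : Γ(N, ⊤)), θ' (r • x) = rS f' r • θ' x) :
    BC iX M iZ P (f' ≫ f) (θ'.comp θ) ↔ BC iY N iZ P f' θ' := by
  let i1 := mS iX M
  let i2 := mS iY N
  let i3 := mS iZ P
  unfold BC
  rw [rS_comp]
  exact CohqA.BaseChangeMod.IsBC.comp_iff h hθ

theorem BC.comp {iX : X ⟶ S} {M : X.Modules} {iY : Y ⟶ T} {N : Y.Modules} {f : T ⟶ S}
    {θ : Γ(M, ⊤) →+ Γ(N, ⊤)} (h : BC iX M iY N f θ) {iZ : Z ⟶ R} {P : Z.Modules} {f' : R ⟶ T}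
    {θ' : Γ(N, ⊤) →+ Γ(P, ⊤)} (h' : BC iY N iZ P f' θ') :
    BC iX M iZ P (f' ≫ f) (θ'.comp θ) := by
  let i1 := mS iX M
  let i2 := mS iY N
  let i3 := mS iZ P
  unfold BC
  rw [rS_comp]
  exact CohqA.BaseChangeMod.IsBC.comp h h'

/-- The map on global sections of a morphism of modules. -/
noncomputable def secMap {M N : X.Modules} (φ : M ⟶ N) : Γ(M, ⊤) →+ Γ(N, ⊤) := (φ.app ⊤).hom

theorem secMap_smul (iX : X ⟶ S) {M N : X.Modules} (φ : M ⟶ N) (a : Γ(S, ⊤)) (m : Γ(M, ⊤)) :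
    letI := mS iX M; letI := mS iX N; secMap φ (a • m) = a • secMap φ m :=
  φ.app_smul _ m

theorem secMap_inv_hom {M N : X.Modules} (e : M ≅ N) (x : Γ(M, ⊤)) : secMap e.inv (secMap e.hom x) = x := by
  change (e.inv.app ⊤) ((e.hom.app ⊤) x) = x
  rw [← ConcreteCategory.comp_apply, ← Scheme.Modules.Hom.comp_app, Iso.hom_inv_id]
  rfl

theorem secMap_hom_inv {M N : X.Modules} (e : M ≅ N) (x : Γ(N, ⊤)) : secMap e.hom (secMap e.inv x) = x :=
  secMap_inv_hom e.symm x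

/-- isomorphic modules have isomorphic sections -/
noncomputable def secIso (iX : X ⟶ S) {M N : X.Modules} (e : M ≅ N) :
    letI := mS iX M; letI := mS iX N; Γ(M, ⊤) ≃ₗ[Γ(S, ⊤)] Γ(N, ⊤) :=
  letI := mS iX M; letI := mS iX N
  { toFun := secMap e.hom
    map_add' := map_add _
    map_smul' := fun a m => secMap_smul iX e.hom a m
    invFun := secMap e.inv
    left_inv := fun x => secMap_inv_hom e x
    right_inv := fun x => secMap_hom_inv e x }

theorem BC.of_iso {iX : X ⟶ S} {M : X.Modules} {iY : Y ⟶ T} {N : Y.Modules} {f : T ⟶ S}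
    {θ : Γ(M, ⊤) →+ Γ(N, ⊤)} (h : BC iX M iY N f θ) {N' : Y.Modules} (e : N ≅ N') :
    BC iX M iY N' f ((secMap e.hom).comp θ) := by
  let i1 := mS iX M
  let i2 := mS iY N
  let i3 := mS iY N'
  exact CohqA.BaseChangeMod.IsBC.of_equiv h (secIso iY e) (fun x => rfl)

/-- Precomposition with an isomorphism. -/
theorem BC.precomp_iso {iX : X ⟶ S} {M : X.Modules} {iY : Y ⟶ T} {N : Y.Modules} {f : T ⟶ S}
    {θ : Γ(M, ⊤) →+ Γ(N, ⊤)} (h : BC iX M iY N f θ) {M' : X.Modules} (e : M' ≅ M) :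
    BC iX M' iY N f (θ.comp (secMap e.hom)) := by
  let i1 := mS iX M
  let i2 := mS iY N
  let i3 := mS iX M'
  have h1 : CohqA.BaseChangeMod.IsBC (RingHom.id Γ(S, ⊤)) (secMap e.hom) :=
    CohqA.BaseChangeMod.IsBC.of_bijective _ Function.bijective_id _ (secIso iX e).bijective
      (fun r x => secMap_smul iX e.hom r x)
  have h2 := CohqA.BaseChangeMod.IsBC.comp h1 h
  rwa [RingHom.comp_id] at h2

theorem sec_smulS {g : Y ⟶ X} {iX : X ⟶ S} {iY : Y ⟶ T} {f : T ⟶ S} (w : g ≫ iX = iY ≫ f) (M : X.Modules)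
    (a : Γ(S, ⊤)) (m : Γ(M, ⊤)) :
    letI := mS iX M; letI := mS iY ((Scheme.Modules.pullback g).obj M)
    sec g M (U := ⊤) (V := ⊤) le_top (a • m) = rS f a • sec g M (U := ⊤) (V := ⊤) le_top m :=
  let _ := algOver f (US := ⊤) (UT := ⊤) le_top
  let _ := modOver iX M (US := ⊤) (UX := ⊤) le_top
  let _ := modOver iY ((Scheme.Modules.pullback g).obj M) (US := ⊤) (UX := ⊤) le_top
  (secS w M (US := ⊤) (UT := ⊤) le_top (UX := ⊤) le_top (UY := ⊤) le_top le_top).map_smulₛₗ a m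

theorem SBC.comp_iff {g : Y ⟶ X} {iX : X ⟶ S} {iY : Y ⟶ T} {f : T ⟶ S} {w : g ≫ iX = iY ≫ f} {M : X.Modules}
    (h : SBC w M) {g' : Z ⟶ Y} {iZ : Z ⟶ R} {f' : R ⟶ T} (w' : g' ≫ iY = iZ ≫ f') {g'' : Z ⟶ X} {f'' : R ⟶ S}
    (hg : g' ≫ g = g'') (hf : f' ≫ f = f'') (w'' : g'' ≫ iX = iZ ≫ f'') :
    SBC w'' M ↔ SBC w' ((Scheme.Modules.pullback g).obj M) := by
  subst hg hf
  have key : sec (g' ≫ g) M (U := ⊤) (V := ⊤) le_top =
      (secMap ((Scheme.Modules.pullbackComp g' g).hom.app M)).comp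
        ((sec g' ((Scheme.Modules.pullback g).obj M) (U := ⊤) (V := ⊤) le_top).comp
          (sec g M (U := ⊤) (V := ⊤) le_top)) := by
    ext s
    exact (Fga.SecComp.sec_comp g' g M (U := ⊤) (V := ⊤) (W := ⊤) le_top le_top le_top s).symm
  have h1 := BC.comp_iff h (iZ := iZ) (P := (Scheme.Modules.pullback g').obj ((Scheme.Modules.pullback g).obj M))
    (f' := f') (θ' := sec g' ((Scheme.Modules.pullback g).obj M) (U := ⊤) (V := ⊤) le_top)
    (fun r x => sec_smulS w' _ r x)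
  refine Iff.trans ?_ h1
  unfold SBC
  constructor
  · intro h2
    let e : (Scheme.Modules.pullback g').obj ((Scheme.Modules.pullback g).obj M) ≅
      (Scheme.Modules.pullback (g' ≫ g)).obj M := (Scheme.Modules.pullbackComp g' g).app M
    have h3 := h2.of_iso e.symm
    have h4 : (secMap e.symm.hom).comp (sec (g' ≫ g) M (U := ⊤) (V := ⊤) le_top) =
        (sec g' ((Scheme.Modules.pullback g).obj M) (U := ⊤) (V := ⊤) le_top).comp
          (sec g M (U := ⊤) (V := ⊤) le_top) := by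
      rw [key]
      ext s
      exact secMap_inv_hom e _
    rwa [h4] at h3
  · intro h2
    have h3 := h2.of_iso ((Scheme.Modules.pullbackComp g' g).app M)
    rw [key]
    exact h3

theorem sbc_of_iso {g : Y ⟶ X} {iX : X ⟶ S} {iY : Y ⟶ T} {f : T ⟶ S} {w : g ≫ iX = iY ≫ f} {M M' : X.Modules}
    (e : M ≅ M') (h : SBC w M) : SBC w M' := by
  have h1 := (h.precomp_iso e.symm).of_iso ((Scheme.Modules.pullback g).mapIso e)
  unfold SBC
  convert h1 using 1
  ext s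
  change sec g M' (U := ⊤) (V := ⊤) le_top s =
    ((Scheme.Modules.pullback g).map e.hom).app ⊤ (sec g M (U := ⊤) (V := ⊤) le_top (secMap e.inv s))
  rw [Fga.SecComp.map_sec]
  exact congrArg _ (secMap_hom_inv e s).symm

/-- The base change property does not depend on the choice of the pull-back square. -/
theorem sbc_of_isIso {g : Y ⟶ X} {iX : X ⟶ S} {iY : Y ⟶ T} {f : T ⟶ S} (w : g ≫ iX = iY ≫ f) [IsIso g] [IsIso f]
    (M : X.Modules) : SBC w M := by
  let i1 := mS iX M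
  let i2 := mS iY ((Scheme.Modules.pullback g).obj M)
  refine CohqA.BaseChangeMod.IsBC.of_bijective _ ?_ _ ?_ (fun r x => sec_smulS w M r x)
  · have : rS f = (f.app ⊤).hom := by ext a; exact rS_apply f a
    rw [this]
    exact (ConcreteCategory.isIso_iff_bijective (f.app ⊤)).1 inferInstance
  · have hU : g ''ᵁ ⊤ = ⊤ := by
      rw [Scheme.Hom.image_top_eq_opensRange, Scheme.Hom.opensRange_of_isIso]
    have hres : ∀ (U : X.Opens) (_ : U = ⊤) (h : U ≤ ⊤), Function.Bijective (Ega1.SubSheaf.res M h) := by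
      rintro U rfl h
      have : (Ega1.SubSheaf.res M h : Γ(M, ⊤) → Γ(M, ⊤)) = id := by
        ext x
        exact Ega1.SubSheaf.res_self M _ x
      rw [this]
      exact Function.bijective_id
    have h1 : Function.Bijective (secMap ((Scheme.Modules.restrictFunctorIsoPullback g).hom.app M)) :=
      (secIso iY ((Scheme.Modules.restrictFunctorIsoPullback g).app M)).bijective
    have h2 := h1.comp (hres _ hU le_top)
    convert h2 using 1
    ext s
    exact Fga.SecComp.sec_eq_of_isOpenImmersion g M (U := ⊤) (V := ⊤) le_top s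

/-- Replacing the square by an isomorphic one. -/
theorem sbc_congr {g : Y ⟶ X} {iX : X ⟶ S} {iY : Y ⟶ T} {f : T ⟶ S} (H : IsPullback g iY iX f)
    {Y' : Scheme.{u}} {g' : Y' ⟶ X} {iY' : Y' ⟶ T} (H' : IsPullback g' iY' iX f) (M : X.Modules)
    (h : SBC H.w M) : SBC H'.w M := by
  let e := H'.isoIsPullback _ _ H
  have w' : e.hom ≫ iY = iY' ≫ 𝟙 T := by
    rw [Category.comp_id]
    exact IsPullback.isoIsPullback_hom_snd _ _ _ _
  rw [h.comp_iff w' (IsPullback.isoIsPullback_hom_fst _ _ _ _) (Category.id_comp f)]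
  exact sbc_of_isIso w' _

end K425.SecBC
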