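import Mathlib.AlgebraicGeometry.FunctionField
import Mathlib.AlgebraicGeometry.Morphisms.FormallyUnramified
import Mathlib.AlgebraicGeometry.Morphisms.Etale
import Mathlib.AlgebraicGeometry.Noetherian
import Mathlib.RingTheory.Etale.Locus
import Mathlib.RingTheory.Etale.Field
import Mathlib.RingTheory.Unramified.Field

/-!
# Generically etale = generically unramified = separable function field extension
-/

set_option autoImplicit false
universe u

open CategoryTheory AlgebraicGeometry

namespace K425.GenEtale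

section algebra

variable (A B K L : Type u) [CommRing A] [CommRing B] [Field K] [Field L]
  [Algebra A B] [Algebra A K] [Algebra B L] [Algebra A L] [Algebra K L] [IsScalarTower A B L]
  [IsScalarTower A K L] [IsFractionRing B L]

theorem isSeparable_of_formallyUnramified [Algebra.FiniteType A B] [Algebra.FormallyUnramified A B] :
    Algebra.IsSeparable K L := by
  have h1 : Algebra.FormallyUnramified B L := Algebra.FormallyUnramified.of_isLocalization (nonZeroDivisors B)
  have h2 : Algebra.FormallyUnramified A L := Algebra.FormallyUnramified.comp A B L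
  have h3 : Algebra.FormallyUnramified K L := Algebra.FormallyUnramified.of_restrictScalars A K L
  have h4 : Algebra.EssFiniteType B L := Algebra.EssFiniteType.of_isLocalization _ (nonZeroDivisors B)
  have h5 : Algebra.EssFiniteType A L := Algebra.EssFiniteType.comp A B L
  have h6 : Algebra.EssFiniteType K L := Algebra.EssFiniteType.of_comp A K L
  exact (Algebra.FormallyUnramified.iff_isSeparable K L).1 h3

theorem exists_etale [IsDomain B] [IsFractionRing A K] [Algebra.FinitePresentation A B]
    [Algebra.IsSeparable K L] : ∃ b : B, b ≠ 0 ∧ Algebra.Etale A (Localization.Away b) := by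
  have h4 : Algebra.EssFiniteType B L := Algebra.EssFiniteType.of_isLocalization _ (nonZeroDivisors B)
  have h5 : Algebra.EssFiniteType A L := Algebra.EssFiniteType.comp A B L
  have h6 : Algebra.EssFiniteType K L := Algebra.EssFiniteType.of_comp A K L
  have h1 : Algebra.FormallyEtale A K := Algebra.FormallyEtale.of_isLocalization (nonZeroDivisors A)
  have h2 : Algebra.FormallyEtale K L := (Algebra.FormallyEtale.iff_isSeparable K L).2 inferInstance
  have h3 : Algebra.FormallyEtale A L := Algebra.FormallyEtale.comp A K L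
  have h7 : IsLocalization (⊥ : Ideal B).primeCompl L := by
    have : (⊥ : Ideal B).primeCompl = nonZeroDivisors B := by
      ext x
      simp [Ideal.primeCompl, mem_nonZeroDivisors_iff_ne_zero]
    rw [this]
    infer_instance
  let e : L ≃ₐ[B] Localization.AtPrime (⊥ : Ideal B) :=
    IsLocalization.algEquiv (⊥ : Ideal B).primeCompl _ _
  have h8 : Algebra.IsEtaleAt A (⊥ : Ideal B) := Algebra.FormallyEtale.of_equiv (e.restrictScalars A)
  have h9 : (⟨⊥, Ideal.isPrime_bot⟩ : PrimeSpectrum B) ∈ Algebra.etaleLocus A B := h8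
  obtain ⟨_, ⟨_, ⟨b, rfl⟩, rfl⟩, hb, hsub⟩ := PrimeSpectrum.isBasis_basic_opens.exists_subset_of_mem_open h9
    (Algebra.isOpen_etaleLocus (R := A) (A := B))
  refine ⟨b, fun h => hb ?_, Algebra.basicOpen_subset_etaleLocus_iff_etale.1 hsub⟩
  change b ∈ (⊥ : Ideal B)
  rw [h]
  exact zero_mem _

end algebra

section geometry

variable {X Y : Scheme.{u}} [IsIntegral X] [IsIntegral Y] (f : X ⟶ Y)

/-- The homomorphism of function fields. -/
noncomputable abbrev ffMap (e : f (genericPoint X) = genericPoint Y) : Y.functionField →+* X.functionField :=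
  (Y.presheaf.stalkSpecializes (specializes_of_eq e) ≫ f.stalkMap (genericPoint X)).hom

theorem ffMap_germ (e : f (genericPoint X) = genericPoint Y) {V : Y.Opens} {W : X.Opens} (i : W ≤ f ⁻¹ᵁ V)
    (hV : genericPoint Y ∈ V) (hW : genericPoint X ∈ W) (a : Γ(Y, V)) :
    ffMap f e (Y.presheaf.germ V _ hV a) = X.presheaf.germ W _ hW (f.appLE V W i a) := by
  have h1 : f (genericPoint X) ∈ V := i hW
  change (Y.presheaf.germ V _ hV ≫ Y.presheaf.stalkSpecializes (specializes_of_eq e) ≫
    f.stalkMap (genericPoint X)) a = (f.appLE V W i ≫ X.presheaf.germ W _ hW) a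
  rw [← Category.assoc, TopCat.Presheaf.germ_stalkSpecializes, Scheme.Hom.germ_stalkMap,
    Scheme.Hom.appLE, Category.assoc, TopCat.Presheaf.germ_res]

theorem exists_chart (e : f (genericPoint X) = genericPoint Y) (O : X.Opens) (hO : (O : Set X).Nonempty) :
    ∃ (V : Y.Opens) (W : X.Opens), IsAffineOpen V ∧ IsAffineOpen W ∧ W ≤ f ⁻¹ᵁ V ∧
      genericPoint Y ∈ V ∧ genericPoint X ∈ W ∧ W ≤ O := by
  obtain ⟨_, ⟨V, hV, rfl⟩, hηV, -⟩ := Y.isBasis_affineOpens.exists_subset_of_mem_open
    (Set.mem_univ (genericPoint Y)) isOpen_univ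
  have h1 : genericPoint X ∈ O ⊓ f ⁻¹ᵁ V := by
    refine ⟨((genericPoint_spec X).mem_open_set_iff O.isOpen).2 (by simpa using hO), ?_⟩
    change f (genericPoint X) ∈ V
    rw [e]
    exact hηV
  obtain ⟨_, ⟨W, hW, rfl⟩, hξW, hWO⟩ := X.isBasis_affineOpens.exists_subset_of_mem_open h1 (O ⊓ f ⁻¹ᵁ V).isOpen
  exact ⟨V, W, hV, hW, fun x hx => (hWO hx).2, hηV, hξW, fun x hx => (hWO hx).1⟩

theorem isSeparable_of_unramified [LocallyOfFiniteType f] (e : f (genericPoint X) = genericPoint Y)
    (U : X.Opens) (hU : (U : Set X).Nonempty) (h : FormallyUnramified (U.ι ≫ f)) :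
    @Algebra.IsSeparable Y.functionField X.functionField _ _ (ffMap f e).toAlgebra := by
  obtain ⟨V, W, hV, hW, i, hηV, hξW, hWU⟩ := exists_chart f e U hU
  have : Nonempty V := ⟨⟨_, hηV⟩⟩
  have : Nonempty W := ⟨⟨_, hξW⟩⟩
  let _ : Algebra Γ(Y, V) Γ(X, W) := (f.appLE V W i).hom.toAlgebra
  let _ : Algebra Y.functionField X.functionField := (ffMap f e).toAlgebra
  let _ : Algebra Γ(Y, V) X.functionField :=
    ((algebraMap Γ(X, W) X.functionField).comp (algebraMap Γ(Y, V) Γ(X, W))).toAlgebra
  have : IsScalarTower Γ(Y, V) Γ(X, W) X.functionField := IsScalarTower.of_algebraMap_eq' rfl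
  have : IsScalarTower Γ(Y, V) Y.functionField X.functionField :=
    IsScalarTower.of_algebraMap_eq fun a => (ffMap_germ f e i hηV hξW a).symm
  have : IsFractionRing Γ(X, W) X.functionField := functionField_isFractionRing_of_isAffineOpen X W hW
  have hft : (f.appLE V W i).hom.FiniteType := f.finiteType_appLE hV hW i
  have : Algebra.FiniteType Γ(Y, V) Γ(X, W) := hft
  have hur : FormallyUnramified (Spec.map (f.appLE V W i)) := by
    have h1 : Spec.map (f.appLE V W i) ≫ hV.fromSpec = (hW.isoSpec.inv ≫ X.homOfLE hWU) ≫ U.ι ≫ f := by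
      rw [hV.SpecMap_appLE_fromSpec f hW i, Category.assoc, Scheme.homOfLE_ι_assoc,
        IsAffineOpen.isoSpec_inv_ι_assoc]
    have h2 : FormallyUnramified (Spec.map (f.appLE V W i) ≫ hV.fromSpec) := by
      rw [h1]
      have h3 : FormallyUnramified (hW.isoSpec.inv ≫ X.homOfLE hWU) := inferInstance
      exact MorphismProperty.comp_mem @FormallyUnramified _ _ h3 h
    exact FormallyUnramified.of_comp _ hV.fromSpec
  have : Algebra.FormallyUnramified Γ(Y, V) Γ(X, W) :=
    (HasRingHomProperty.Spec_iff (P := @FormallyUnramified)).1 hur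
  exact isSeparable_of_formallyUnramified Γ(Y, V) Γ(X, W) Y.functionField X.functionField

theorem exists_etale_of_isSeparable [LocallyOfFiniteType f] [IsLocallyNoetherian Y]
    (e : f (genericPoint X) = genericPoint Y)
    (h : @Algebra.IsSeparable Y.functionField X.functionField _ _ (ffMap f e).toAlgebra) :
    ∃ U : X.Opens, (U : Set X).Nonempty ∧ Etale (U.ι ≫ f) := by
  obtain ⟨V, W, hV, hW, i, hηV, hξW, -⟩ := exists_chart f e ⊤ ⟨genericPoint X, trivial⟩
  have : Nonempty V := ⟨⟨_, hηV⟩⟩
  have : Nonempty W := ⟨⟨_, hξW⟩⟩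
  let _ : Algebra Γ(Y, V) Γ(X, W) := (f.appLE V W i).hom.toAlgebra
  let _ : Algebra Y.functionField X.functionField := (ffMap f e).toAlgebra
  let _ : Algebra Γ(Y, V) X.functionField :=
    ((algebraMap Γ(X, W) X.functionField).comp (algebraMap Γ(Y, V) Γ(X, W))).toAlgebra
  have : IsScalarTower Γ(Y, V) Γ(X, W) X.functionField := IsScalarTower.of_algebraMap_eq' rfl
  have : IsScalarTower Γ(Y, V) Y.functionField X.functionField :=
    IsScalarTower.of_algebraMap_eq fun a => (ffMap_germ f e i hηV hξW a).symm
  have : IsFractionRing Γ(X, W) X.functionField := functionField_isFractionRing_of_isAffineOpen X W hW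
  have : IsFractionRing Γ(Y, V) Y.functionField := functionField_isFractionRing_of_isAffineOpen Y V hV
  have hft : (f.appLE V W i).hom.FiniteType := f.finiteType_appLE hV hW i
  have : Algebra.FiniteType Γ(Y, V) Γ(X, W) := hft
  have : IsNoetherianRing Γ(Y, V) := IsLocallyNoetherian.component_noetherian ⟨V, hV⟩
  have : Algebra.FinitePresentation Γ(Y, V) Γ(X, W) := Algebra.FinitePresentation.of_finiteType.1 inferInstance
  obtain ⟨b, hb, hbet⟩ := exists_etale Γ(Y, V) Γ(X, W) Y.functionField X.functionField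
  have hO : IsAffineOpen (X.basicOpen b) := hW.basicOpen b
  have i' : X.basicOpen b ≤ f ⁻¹ᵁ V := (X.basicOpen_le b).trans i
  refine ⟨X.basicOpen b, ?_, ?_⟩
  · rw [Set.nonempty_iff_ne_empty]
    intro h0
    apply hb
    rw [← basicOpen_eq_bot_iff]
    exact TopologicalSpace.Opens.ext h0
  · have h1 : (f.appLE V (X.basicOpen b) i').hom.Etale := by
      have hloc := hW.isLocalization_basicOpen b
      have h4 : f.appLE V (X.basicOpen b) i' = f.appLE V W i ≫ X.presheaf.map (homOfLE (X.basicOpen_le b)).op := by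
        rw [Scheme.Hom.appLE_map]
      let _ : Algebra Γ(Y, V) Γ(X, X.basicOpen b) := (f.appLE V (X.basicOpen b) i').hom.toAlgebra
      have : IsScalarTower Γ(Y, V) Γ(X, W) Γ(X, X.basicOpen b) := IsScalarTower.of_algebraMap_eq fun a => by
        change (f.appLE V (X.basicOpen b) i') a = _
        rw [h4]
        rfl
      have e1 : Localization.Away b ≃ₐ[Γ(X, W)] Γ(X, X.basicOpen b) :=
        IsLocalization.algEquiv (Submonoid.powers b) _ _
      exact Algebra.Etale.of_equiv (e1.restrictScalars Γ(Y, V))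
    have h2 : Etale (Spec.map (f.appLE V (X.basicOpen b) i')) :=
      (HasRingHomProperty.Spec_iff (P := @Etale)).2 h1
    have h3 : (X.basicOpen b).ι ≫ f =
        hO.isoSpec.hom ≫ Spec.map (f.appLE V (X.basicOpen b) i') ≫ hV.fromSpec := by
      rw [hV.SpecMap_appLE_fromSpec f hO i', hO.isoSpec_hom_fromSpec_assoc]
    rw [h3]
    infer_instance

end geometry

end K425.GenEtale
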