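import Groth.Prelude.Def_CohB1
import Mathlib.AlgebraicGeometry.ProjectiveSpectrum.Topology
import Mathlib.AlgebraicGeometry.ProjectiveSpectrum.Scheme
import Mathlib.AlgebraicGeometry.Properties
import Mathlib.RingTheory.MvPolynomial.Homogeneous
import Mathlib.RingTheory.MvPowerSeries.NoZeroDivisors
import Mathlib.RingTheory.Polynomial.UniqueFactorization
import Mathlib.Algebra.MvPolynomial.NoZeroDivisors
import Mathlib.RingTheory.Ideal.KrullsHeightTheorem
import Mathlib.Topology.Connected.Basic
import Groth.Agent.S0209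

/-!
# Homogeneous polynomials: factors, and the hypersurfaces of projective space

* `isHomogeneous_of_mul`: a factor of a nonzero homogeneous polynomial is homogeneous;
* `pt`: the point of `Proj k[T_0..T_n]` given by a homogeneous prime not containing some variable;
* `primeOf`: the principal homogeneous prime of an irreducible homogeneous polynomial.
-/

set_option autoImplicit false
universe u

open MvPolynomial

namespace K425.HomPoly

/-- A factor of a nonzero homogeneous polynomial is homogeneous. -/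
theorem isHomogeneous_of_mul {σ R : Type*} [CommRing R] [IsDomain R] {g h : MvPolynomial σ R} {n : ℕ}
    (hn : (g * h).IsHomogeneous n) (hne : g * h ≠ 0) : g.IsHomogeneous g.totalDegree := by
  have hg : g ≠ 0 := left_ne_zero_of_mul hne
  have hh : h ≠ 0 := right_ne_zero_of_mul hne
  have hord : ∀ p : MvPolynomial σ R, p ≠ 0 → (p : MvPowerSeries σ R).order ≤ p.totalDegree := by
    intro p hp
    obtain ⟨d, hd⟩ := MvPolynomial.ne_zero_iff.1 hp
    refine (MvPowerSeries.order_le (d := d) (by rwa [MvPolynomial.coeff_coe])).trans ?_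
    have h1 := MvPolynomial.le_totalDegree (MvPolynomial.mem_support_iff.2 hd)
    exact_mod_cast (show Finsupp.degree d ≤ p.totalDegree from h1)
  have h1 : (n : ℕ∞) ≤ ((g * h : MvPolynomial σ R) : MvPowerSeries σ R).order := by
    refine MvPowerSeries.nat_le_order fun d hd => ?_
    rw [MvPolynomial.coeff_coe]
    exact hn.coeff_eq_zero hd.ne
  rw [MvPolynomial.coe_mul, MvPowerSeries.order_mul] at h1
  have h2 : g.totalDegree + h.totalDegree = n := by
    rw [← MvPolynomial.totalDegree_mul_of_isDomain hg hh]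
    exact hn.totalDegree hne
  have h3 : (g.totalDegree : ℕ∞) ≤ (g : MvPowerSeries σ R).order := by
    have h4 := hord h hh
    have h5 : (g.totalDegree : ℕ∞) + h.totalDegree ≤ (g : MvPowerSeries σ R).order + h.totalDegree := by
      rw [← Nat.cast_add, h2]
      exact h1.trans (by gcongr)
    exact (ENat.add_le_add_iff_right (ENat.natCast_ne_top _)).1 h5
  intro d hd
  have h6 := MvPolynomial.le_totalDegree (MvPolynomial.mem_support_iff.2 hd)
  have h7 : (g.totalDegree : ℕ∞) ≤ Finsupp.degree d :=
    h3.trans (MvPowerSeries.order_le (d := d) (by rwa [MvPolynomial.coeff_coe]))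
  have h8 : g.totalDegree ≤ Finsupp.degree d := by exact_mod_cast h7
  have h9 : Finsupp.degree d ≤ g.totalDegree := h6
  have h10 : Finsupp.degree d = Finsupp.weight 1 d := by rw [Finsupp.degree_eq_weight_one]; rfl
  omega

section Proj

variable {k : Type u} [Field k] {n : ℕ}

open AlgebraicGeometry

theorem isHomogeneousElem {f : MvPolynomial (Fin (n + 1)) k} {d : ℕ} (hf : f.IsHomogeneous d) :
    SetLike.IsHomogeneousElem (CohB1.polyGrading n k) f := ⟨d, hf⟩

/-- A nonzero homogeneous prime contains an irreducible homogeneous polynomial. -/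
theorem exists_irreducible_dvd (P : Ideal (MvPolynomial (Fin (n + 1)) k)) [hP : P.IsPrime]
    {g : MvPolynomial (Fin (n + 1)) k} {e : ℕ} (hg : g.IsHomogeneous e) (hg0 : g ≠ 0) (hgP : g ∈ P) :
    ∃ (d : ℕ) (f : MvPolynomial (Fin (n + 1)) k), f.IsHomogeneous d ∧ Irreducible f ∧ f ∈ P ∧ f ∣ g := by
  obtain ⟨s, hs, hsg⟩ := WfDvdMonoid.exists_factors g hg0
  have h1 : s.prod ∈ P := by
    obtain ⟨u, hu⟩ := hsg.symm
    rw [← hu]
    exact P.mul_mem_right _ hgP
  obtain ⟨f, hfs, hfP⟩ := (hP.multiset_prod_mem_iff_exists_mem s).1 h1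
  have hdvd : f ∣ g := (Multiset.dvd_prod hfs).trans hsg.dvd
  obtain ⟨c, rfl⟩ := hdvd
  exact ⟨_, f, isHomogeneous_of_mul hg hg0, hs f hfs, hfP, dvd_mul_right _ _⟩

theorem exists_irreducible_mem (P : HomogeneousIdeal (CohB1.polyGrading n k)) [hP : P.toIdeal.IsPrime]
    (h0 : P.toIdeal ≠ ⊥) :
    ∃ (d : ℕ) (f : MvPolynomial (Fin (n + 1)) k), f.IsHomogeneous d ∧ Irreducible f ∧ f ∈ P.toIdeal := by
  obtain ⟨g, hg, hg0⟩ := Submodule.exists_mem_ne_zero_of_ne_bot h0
  have : ∃ i, homogeneousComponent i g ≠ 0 := by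
    by_contra h
    push Not at h
    apply hg0
    rw [← MvPolynomial.sum_homogeneousComponent g]
    exact Finset.sum_eq_zero fun i _ => h i
  obtain ⟨i, hi⟩ := this
  have hmem : homogeneousComponent i g ∈ P.toIdeal := by
    have h := P.isHomogeneous i hg
    exact (MvPolynomial.decomposition.decompose'_apply g i) ▸ h
  obtain ⟨d, f, h1, h2, h3, -⟩ := exists_irreducible_dvd P.toIdeal
    (homogeneousComponent_isHomogeneous i g) hi hmem
  exact ⟨d, f, h1, h2, h3⟩

/-- The prime ideal generated by an irreducible homogeneous polynomial. -/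
noncomputable def primeOf (f : MvPolynomial (Fin (n + 1)) k) {d : ℕ} (hf : f.IsHomogeneous d) :
    HomogeneousIdeal (CohB1.polyGrading n k) :=
  ⟨Ideal.span {f}, Ideal.homogeneous_span _ _ (by
    rintro x rfl
    exact isHomogeneousElem hf)⟩

/-- The point of projective space given by an irreducible homogeneous polynomial vanishing somewhere. -/
noncomputable def ptOf (f : MvPolynomial (Fin (n + 1)) k) {d : ℕ} (hf : f.IsHomogeneous d)
    (hirr : Irreducible f) (x : ProjectiveSpectrum (CohB1.polyGrading n k))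
    (hx : f ∈ x.asHomogeneousIdeal.toIdeal) : ProjectiveSpectrum (CohB1.polyGrading n k) where
  asHomogeneousIdeal := primeOf f hf
  isPrime := (Ideal.span_singleton_prime hirr.ne_zero).2 hirr.prime
  not_irrelevant_le := fun h => x.not_irrelevant_le (h.trans (by
    change Ideal.span {f} ≤ x.asHomogeneousIdeal.toIdeal
    rwa [Ideal.span_singleton_le_iff_mem]))

/-- The generic point of projective space. -/
noncomputable def ptBot (n : ℕ) (k : Type u) [Field k] : ProjectiveSpectrum (CohB1.polyGrading n k) where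
  asHomogeneousIdeal := ⊥
  isPrime := by
    rw [HomogeneousIdeal.toIdeal_bot]
    exact Ideal.isPrime_bot
  not_irrelevant_le := fun h => by
    have h1 : (X 0 : MvPolynomial (Fin (n + 1)) k) ∈ HomogeneousIdeal.irrelevant (CohB1.polyGrading n k) :=
      HomogeneousIdeal.mem_irrelevant_of_mem _ one_pos (isHomogeneous_X _ _)
    have h2 := h h1
    exact X_ne_zero (R := k) (0 : Fin (n + 1)) h2

theorem closure_singleton (x : ProjectiveSpectrum (CohB1.polyGrading n k)) :
    closure {x} = ProjectiveSpectrum.zeroLocus (CohB1.polyGrading n k) (x.asHomogeneousIdeal.toIdeal : Set _) := by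
  rw [← ProjectiveSpectrum.zeroLocus_vanishingIdeal_eq_closure, ProjectiveSpectrum.vanishingIdeal_singleton]
  rfl

theorem closure_ptOf (f : MvPolynomial (Fin (n + 1)) k) {d : ℕ} (hf : f.IsHomogeneous d)
    (hirr : Irreducible f) (x : ProjectiveSpectrum (CohB1.polyGrading n k))
    (hx : f ∈ x.asHomogeneousIdeal.toIdeal) :
    closure {ptOf f hf hirr x hx} = ProjectiveSpectrum.zeroLocus (CohB1.polyGrading n k) {f} := by
  rw [closure_singleton]
  exact ProjectiveSpectrum.zeroLocus_span _ _

theorem closure_ptBot : closure {ptBot n k} = Set.univ := by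
  rw [closure_singleton]
  change ProjectiveSpectrum.zeroLocus _ (((⊥ : HomogeneousIdeal (CohB1.polyGrading n k)).toIdeal :
    Ideal (MvPolynomial (Fin (n + 1)) k)) : Set (MvPolynomial (Fin (n + 1)) k)) = _
  rw [HomogeneousIdeal.toIdeal_bot]
  exact ProjectiveSpectrum.zeroLocus_bot _

instance quasiSober : QuasiSober (ProjectiveSpectrum (CohB1.polyGrading n k)) :=
  inferInstanceAs (QuasiSober (Proj (CohB1.polyGrading n k)))

/-- The closure of a point as an irreducible closed set. -/
def cl (x : ProjectiveSpectrum (CohB1.polyGrading n k)) :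
    TopologicalSpace.IrreducibleCloseds (ProjectiveSpectrum (CohB1.polyGrading n k)) :=
  ⟨closure {x}, isIrreducible_singleton.closure, isClosed_closure⟩

theorem cl_ptBot : ∀ Z, Z ≤ cl (ptBot n k) := fun Z x _ => by
  change x ∈ closure {ptBot n k}
  rw [closure_ptBot]
  trivial

theorem isMax_iff (Z : TopologicalSpace.IrreducibleCloseds (ProjectiveSpectrum (CohB1.polyGrading n k))) :
    IsMax Z ↔ Z = cl (ptBot n k) :=
  ⟨fun h => le_antisymm (cl_ptBot Z) (h (cl_ptBot Z)), fun h => h ▸ fun _ _ => cl_ptBot _⟩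

theorem exists_eq_cl (Z : TopologicalSpace.IrreducibleCloseds (ProjectiveSpectrum (CohB1.polyGrading n k))) :
    ∃ z, Z = cl z := by
  obtain ⟨z, hz⟩ := QuasiSober.sober Z.isIrreducible' Z.isClosed'
  exact ⟨z, SetLike.coe_injective hz.symm⟩

theorem cl_le_cl_iff (x y : ProjectiveSpectrum (CohB1.polyGrading n k)) :
    cl x ≤ cl y ↔ y.asHomogeneousIdeal.toIdeal ≤ x.asHomogeneousIdeal.toIdeal := by
  change closure {x} ⊆ closure {y} ↔ _
  rw [isClosed_closure.closure_subset_iff, Set.singleton_subset_iff, closure_singleton y]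
  exact Iff.rfl

theorem cl_injective {x y : ProjectiveSpectrum (CohB1.polyGrading n k)} (h : cl x = cl y) :
    x.asHomogeneousIdeal.toIdeal = y.asHomogeneousIdeal.toIdeal :=
  le_antisymm ((cl_le_cl_iff _ _).1 h.ge) ((cl_le_cl_iff _ _).1 h.le)

/-- codimension one irreducible closed subsets are hypersurfaces -/
theorem coheight_eq_one_iff (Z : TopologicalSpace.IrreducibleCloseds (ProjectiveSpectrum (CohB1.polyGrading n k))) :
    Order.coheight Z = 1 ↔
      ∃ (d : ℕ) (f : MvPolynomial (Fin (n + 1)) k), f.IsHomogeneous d ∧ Irreducible f ∧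
        (Z : Set (ProjectiveSpectrum (CohB1.polyGrading n k))) =
          ProjectiveSpectrum.zeroLocus (CohB1.polyGrading n k) ({f} : Set (MvPolynomial (Fin (n + 1)) k)) := by
  have key : Order.coheight Z = 1 ↔ ¬ IsMax Z ∧ ∀ Y > Z, IsMax Y := by
    have h1 : Order.coheight Z ≤ 1 ↔ ∀ Y > Z, IsMax Y := by
      have := Order.coheight_le_coe_iff (x := Z) (n := 1)
      rw [Nat.cast_one] at this
      rw [this]
      refine forall₂_congr fun Y _ => ?_
      rw [← Order.coheight_eq_zero, Order.lt_one_iff]
    have h2 : 1 ≤ Order.coheight Z ↔ ¬ IsMax Z := by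
      rw [Order.one_le_iff_ne_zero, Order.coheight_ne_zero]
    rw [← h1, ← h2, and_comm]
    exact le_antisymm_iff
  rw [key]
  constructor
  · rintro ⟨h1, h2⟩
    obtain ⟨z, rfl⟩ := exists_eq_cl Z
    have hz : z.asHomogeneousIdeal.toIdeal ≠ ⊥ := by
      intro h
      apply h1
      rw [isMax_iff]
      refine le_antisymm (cl_ptBot _) ((cl_le_cl_iff _ _).2 ?_)
      rw [h]
      exact bot_le
    obtain ⟨d, f, hf, hirr, hfz⟩ := exists_irreducible_mem z.asHomogeneousIdeal hz
    refine ⟨d, f, hf, hirr, ?_⟩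
    have h3 : cl z ≤ cl (ptOf f hf hirr z hfz) := by
      rw [cl_le_cl_iff]
      change Ideal.span {f} ≤ _
      rwa [Ideal.span_singleton_le_iff_mem]
    rcases h3.eq_or_lt with h4 | h4
    · rw [h4]
      exact closure_ptOf f hf hirr z hfz
    · have h5 := (isMax_iff _).1 (h2 _ h4)
      have h6 := cl_injective h5
      change Ideal.span {f} = (⊥ : HomogeneousIdeal (CohB1.polyGrading n k)).toIdeal at h6
      rw [HomogeneousIdeal.toIdeal_bot, Ideal.span_singleton_eq_bot] at h6
      exact absurd h6 hirr.ne_zero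
  · rintro ⟨d, f, hf, hirr, hZ⟩
    obtain ⟨x, hx⟩ := Z.isIrreducible'.nonempty
    have hx' : f ∈ x.asHomogeneousIdeal.toIdeal := by
      have : x ∈ (Z : Set (ProjectiveSpectrum (CohB1.polyGrading n k))) := hx
      rw [hZ] at this
      exact this rfl
    have hZ' : Z = cl (ptOf f hf hirr x hx') := SetLike.coe_injective (by
      rw [hZ]
      exact (closure_ptOf f hf hirr x hx').symm)
    rw [hZ']
    constructor
    · intro h
      have h6 := cl_injective ((isMax_iff _).1 h)
      change Ideal.span {f} = (⊥ : HomogeneousIdeal (CohB1.polyGrading n k)).toIdeal at h6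
      rw [HomogeneousIdeal.toIdeal_bot, Ideal.span_singleton_eq_bot] at h6
      exact hirr.ne_zero h6
    · intro Y hY
      obtain ⟨y, rfl⟩ := exists_eq_cl Y
      rw [isMax_iff]
      by_contra hne
      have hy0 : y.asHomogeneousIdeal.toIdeal ≠ ⊥ := by
        intro h
        apply hne
        refine le_antisymm (cl_ptBot _) ((cl_le_cl_iff _ _).2 ?_)
        rw [h]
        exact bot_le
      obtain ⟨d', g, hg, hgirr, hgy⟩ := exists_irreducible_mem y.asHomogeneousIdeal hy0
      have h7 : y.asHomogeneousIdeal.toIdeal ≤ Ideal.span {f} := (cl_le_cl_iff _ _).1 hY.le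
      have h8 : f ∣ g := Ideal.mem_span_singleton.1 (h7 hgy)
      have h9 : Associated f g := hirr.associated_of_dvd hgirr h8
      have h10 : Ideal.span {f} ≤ y.asHomogeneousIdeal.toIdeal := by
        rw [Ideal.span_singleton_le_iff_mem]
        exact Ideal.mem_of_dvd _ h9.symm.dvd hgy
      exact hY.not_ge ((cl_le_cl_iff _ _).2 h10)

/-- the irrelevant ideal is the kernel of the constant coefficient -/
theorem mem_irrelevant_iff (g : MvPolynomial (Fin (n + 1)) k) :
    g ∈ HomogeneousIdeal.irrelevant (CohB1.polyGrading n k) ↔ constantCoeff g = 0 := by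
  rw [HomogeneousIdeal.mem_irrelevant_iff]
  have h : GradedRing.proj (CohB1.polyGrading n k) 0 g = homogeneousComponent 0 g :=
    MvPolynomial.decomposition.decompose'_apply g 0
  rw [h, homogeneousComponent_zero, C_eq_zero]
  rfl

theorem isMaximal_irrelevant : (HomogeneousIdeal.irrelevant (CohB1.polyGrading n k)).toIdeal.IsMaximal := by
  have h : (HomogeneousIdeal.irrelevant (CohB1.polyGrading n k)).toIdeal =
      RingHom.ker (constantCoeff : MvPolynomial (Fin (n + 1)) k →+* k) := by
    ext g
    exact mem_irrelevant_iff g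
  rw [h]
  exact RingHom.ker_isMaximal_of_surjective _ fun c => ⟨C c, constantCoeff_C _ _⟩

/-- Two homogeneous polynomials without constant term have a common zero in `P^n`, `n ≥ 2`. -/
theorem exists_common_zero (hn : 2 ≤ n) {f g : MvPolynomial (Fin (n + 1)) k} {d e : ℕ}
    (hf : f.IsHomogeneous d) (hg : g.IsHomogeneous e) (hf0 : constantCoeff f = 0) (hg0 : constantCoeff g = 0) :
    ∃ x : ProjectiveSpectrum (CohB1.polyGrading n k), f ∈ x.asHomogeneousIdeal.toIdeal ∧
      g ∈ x.asHomogeneousIdeal.toIdeal := by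
  have hmax := isMaximal_irrelevant (k := k) (n := n)
  let I : Ideal (MvPolynomial (Fin (n + 1)) k) := Ideal.span {f, g}
  have hI : I ≤ (HomogeneousIdeal.irrelevant (CohB1.polyGrading n k)).toIdeal := by
    rw [Ideal.span_le]
    rintro x (rfl | rfl)
    · exact (mem_irrelevant_iff _).2 hf0
    · exact (mem_irrelevant_iff _).2 hg0
  obtain ⟨Q, hQ, hQm⟩ := Ideal.exists_minimalPrimes_le hI
  have hQp : Q.IsPrime := hQ.1.1
  have hIhom : I.IsHomogeneous (CohB1.polyGrading n k) := Ideal.homogeneous_span _ _ (by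
    rintro x (rfl | rfl)
    · exact isHomogeneousElem hf
    · exact isHomogeneousElem hg)
  have hcore : (Q.homogeneousCore (CohB1.polyGrading n k)).toIdeal = Q := by
    refine le_antisymm (Ideal.toIdeal_homogeneousCore_le _ _) (hQ.2 ⟨hQp.homogeneousCore, ?_⟩
      (Ideal.toIdeal_homogeneousCore_le _ _))
    rw [← hIhom.toIdeal_homogeneousCore_eq_self]
    exact Ideal.homogeneousCore_mono _ hQ.1.2
  have hheight : Q.height ≤ 2 := by
    refine (Ideal.height_le_card_of_mem_minimalPrimes_span (s := {f, g}) (Set.toFinite _) hQ).trans ?_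
    have : ({f, g} : Set (MvPolynomial (Fin (n + 1)) k)).ncard ≤ 2 := by
      refine (Set.ncard_insert_le _ _).trans ?_
      rw [Set.ncard_singleton]
    exact_mod_cast this
  have hne : Q ≠ (HomogeneousIdeal.irrelevant (CohB1.polyGrading n k)).toIdeal := by
    rintro h
    rw [h, Groth.Agent.S0209.height_eq_of_isMaximal k (n + 1)] at hheight
    have : n + 1 ≤ 2 := by exact_mod_cast hheight
    omega
  refine ⟨⟨Q.homogeneousCore (CohB1.polyGrading n k), hQp.homogeneousCore, fun h => hne ?_⟩, ?_, ?_⟩
  · refine le_antisymm hQm ?_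
    rw [← hcore]
    exact h
  · rw [hcore]
    exact hQ.1.2 (Ideal.subset_span (by simp))
  · rw [hcore]
    exact hQ.1.2 (Ideal.subset_span (by simp))

theorem constantCoeff_eq_zero {f : MvPolynomial (Fin (n + 1)) k} {d : ℕ} (hf : f.IsHomogeneous d)
    (hd : 0 < d) : constantCoeff f = 0 :=
  hf.coeff_eq_zero (by simpa using hd.ne)

theorem constantCoeff_eq_zero_of_irreducible {f : MvPolynomial (Fin (n + 1)) k} {d : ℕ} (hf : f.IsHomogeneous d)
    (hirr : Irreducible f) : constantCoeff f = 0 := by
  rcases Nat.eq_zero_or_pos d with rfl | hd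
  · exfalso
    have h0 : f.totalDegree = 0 := (totalDegree_zero_iff_isHomogeneous _).2 hf
    rw [totalDegree_eq_zero_iff_eq_C] at h0
    have hc : f.coeff 0 ≠ 0 := by
      intro h
      rw [h, C_0] at h0
      exact hirr.ne_zero h0
    apply hirr.not_isUnit
    rw [h0]
    exact (isUnit_iff_ne_zero.2 hc).map C
  · exact constantCoeff_eq_zero hf hd

/-- **Hypersurfaces in `P^n`, `n ≥ 2`, are connected.** -/
theorem isConnected_zeroLocus (hn : 2 ≤ n) {d : ℕ}
    (f : MvPolynomial (Fin (n + 1)) k) (hf : f.IsHomogeneous d) (hd : 0 < d) (hf0 : f ≠ 0) :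
    IsConnected (ProjectiveSpectrum.zeroLocus (CohB1.polyGrading n k)
      ({f} : Set (MvPolynomial (Fin (n + 1)) k))) := by
  constructor
  · obtain ⟨x, hx, -⟩ := exists_common_zero hn hf hf (constantCoeff_eq_zero hf hd) (constantCoeff_eq_zero hf hd)
    exact ⟨x, by rintro _ rfl; exact hx⟩
  · refine isPreconnected_of_forall_pair fun x hx y hy => ?_
    obtain ⟨a, p, hp, hpirr, hpx, hpf⟩ := exists_irreducible_dvd x.asHomogeneousIdeal.toIdeal hf hf0 (hx rfl)
    obtain ⟨b, q, hq, hqirr, hqy, hqf⟩ := exists_irreducible_dvd y.asHomogeneousIdeal.toIdeal hf hf0 (hy rfl)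
    have hsub : ∀ p : MvPolynomial (Fin (n + 1)) k, p ∣ f →
        ProjectiveSpectrum.zeroLocus (CohB1.polyGrading n k) ({p} : Set (MvPolynomial (Fin (n + 1)) k)) ⊆
        ProjectiveSpectrum.zeroLocus (CohB1.polyGrading n k) ({f} : Set (MvPolynomial (Fin (n + 1)) k)) := by
      rintro p hp z hz _ rfl
      exact Ideal.mem_of_dvd _ hp (hz rfl)
    refine ⟨_, Set.union_subset (hsub p hpf) (hsub q hqf), Or.inl (by rintro _ rfl; exact hpx),
      Or.inr (by rintro _ rfl; exact hqy), ?_⟩
    obtain ⟨z, hz1, hz2⟩ := exists_common_zero hn hp hq (constantCoeff_eq_zero_of_irreducible hp hpirr)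
      (constantCoeff_eq_zero_of_irreducible hq hqirr)
    refine IsPreconnected.union z (by rintro _ rfl; exact hz1) (by rintro _ rfl; exact hz2) ?_ ?_
    · rw [← closure_ptOf p hp hpirr x hpx]
      exact isPreconnected_singleton.closure
    · rw [← closure_ptOf q hq hqirr y hqy]
      exact isPreconnected_singleton.closure

end Proj

end K425.HomPoly
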