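import Groth.Agent.Variety.K425.FibRank
import Groth.Agent.Ega4late.H544.FieldRank
import Mathlib.RingTheory.Spectrum.Prime.FreeLocus

/-!
# Rank ideals and local freeness
-/

set_option autoImplicit false
universe u
open CategoryTheory CategoryTheory.Limits AlgebraicGeometry TopologicalSpace TensorProduct

namespace K425.RankAlg

open Groth.Agent K425.SecBC K425.FibRank Groth.Agent.Fga.GrRank

section Alg

variable {A E : Type u} [CommRing A] [AddCommGroup E] [Module A E] [Module.Finite A E]

/-- Over a field valued point where the rank is `c` the rank ideal vanishes. -/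
theorem rankIdeal_field (K : Type u) [Field K] [Algebra A K] {c : ℕ} (h : Module.finrank K (K ⊗[A] E) = c) :
    ∀ a ∈ rankIdeal A E c, algebraMap A K a = 0 :=
  rankIdeal_of_free (B := K) (M := E) inferInstance ((finrank_residue_of_free inferInstance).trans h)

/-- The rank ideal vanishes over reduced rings if the rank is constant. -/
theorem rankIdeal_eq_bot [IsReduced A] {c : ℕ}
    (h : ∀ p : PrimeSpectrum A, Module.finrank p.asIdeal.ResidueField (p.asIdeal.ResidueField ⊗[A] E) = c) :
    rankIdeal A E c = ⊥ := by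
  rw [eq_bot_iff, ← Ideal.zero_eq_bot, ← nilradical_eq_zero A]
  intro a ha
  rw [nilradical_eq_sInf, Ideal.mem_sInf]
  intro I hI
  have hI' : I.IsPrime := hI
  have := rankIdeal_field I.ResidueField (h ⟨I, hI'⟩) a ha
  exact Ideal.algebraMap_residueField_eq_zero.1 this

theorem projective_of_rankIdeal [Module.FinitePresentation A E] {c : ℕ} (h0 : rankIdeal A E c = ⊥)
    (h : ∀ p : PrimeSpectrum A, Module.finrank p.asIdeal.ResidueField (p.asIdeal.ResidueField ⊗[A] E) ≤ c) :
    Module.Projective A E := by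
  rw [← Module.freeLocus_eq_univ_iff, Set.eq_univ_iff_forall]
  intro p
  rw [Module.mem_freeLocus_iff_tensor p (Localization.AtPrime p.asIdeal)]
  obtain ⟨e⟩ := free_of_rankIdeal (B := Localization.AtPrime p.asIdeal) (A := A) (M := E) (c := c) (h p) (by
    rw [h0]
    intro a ha
    rw [(Submodule.mem_bot A).1 ha, map_zero])
  exact Module.Free.of_equiv e

end Alg

section Geo

variable {X S : Scheme.{u}} (iX : X ⟶ S) (M : X.Modules)

theorem rk_eq {K : Type u} [Field K] (t : Spec (CommRingCat.of K) ⟶ S) (p : PrimeSpectrum Γ(S, ⊤))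
    (h : RingHom.ker (evt t) = p.asIdeal) :
    letI := mS iX M
    rk iX M t = Module.finrank p.asIdeal.ResidueField (p.asIdeal.ResidueField ⊗[Γ(S, ⊤)] Γ(M, ⊤)) := by
  let i0 := mS iX M
  let i1 := (evt t).toAlgebra
  exact Ega4late.H544.FieldRank.finrank_eq_residueField _ p.asIdeal K h

theorem mem_ker_evt (s : S) (a : Γ(S, ⊤)) :
    a ∈ RingHom.ker (evt (K := S.residueField s) (S.fromSpecResidueField s)) ↔ a ∈ (S.toSpecΓ s).asIdeal := by
  rw [← not_iff_not, RingHom.mem_ker, ← Ne, evt_ne_zero_iff _ default, Scheme.fromSpecResidueField_apply,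
    ← Scheme.toSpecΓ_preimage_basicOpen]
  rfl

theorem ker_evt (s : S) :
    RingHom.ker (evt (K := S.residueField s) (S.fromSpecResidueField s)) = (S.toSpecΓ s).asIdeal :=
  Ideal.ext fun a => mem_ker_evt s a

theorem rk_point (s : S) :
    letI := mS iX M
    rk iX M (K := S.residueField s) (S.fromSpecResidueField s) =
      Module.finrank (S.toSpecΓ s).asIdeal.ResidueField ((S.toSpecΓ s).asIdeal.ResidueField ⊗[Γ(S, ⊤)] Γ(M, ⊤)) :=
  rk_eq iX M _ _ (ker_evt s)

/-- The rank of a field valued point only depends on the image. -/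
theorem rk_eq_point {K : Type u} [Field K] (t : Spec (CommRingCat.of K) ⟶ S) (x : Spec (CommRingCat.of K)) :
    rk iX M t = rk iX M (K := S.residueField (t x)) (S.fromSpecResidueField (t x)) := by
  rw [rk_point]
  refine rk_eq iX M t _ (Ideal.ext fun a => ?_)
  rw [← mem_ker_evt, ← not_iff_not, RingHom.mem_ker, RingHom.mem_ker, ← Ne, ← Ne, evt_ne_zero_iff _ x,
    evt_ne_zero_iff _ default, Scheme.fromSpecResidueField_apply]

variable [IsAffine S]

theorem surjective_toSpecΓ : Function.Surjective S.toSpecΓ := S.toSpecΓ.surjective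

/-- Constant rank over a reduced affine scheme. -/
theorem flat_of_const [IsReduced S] [IsLocallyNoetherian S]
    (hfin : letI := mS iX M; Module.Finite Γ(S, ⊤) Γ(M, ⊤)) {c : ℕ}
    (h : ∀ s : S, rk iX M (K := S.residueField s) (S.fromSpecResidueField s) = c) :
    letI := mS iX M
    Module.Flat Γ(S, ⊤) Γ(M, ⊤) := by
  let i0 := mS iX M
  have hN := Ega3B.AcycNbhd.isNoetherianRing S
  have hfp : Module.FinitePresentation Γ(S, ⊤) Γ(M, ⊤) := Module.finitePresentation_of_finite _ _
  have h1 : ∀ p : PrimeSpectrum Γ(S, ⊤),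
      Module.finrank p.asIdeal.ResidueField (p.asIdeal.ResidueField ⊗[Γ(S, ⊤)] Γ(M, ⊤)) = c := by
    intro p
    obtain ⟨s, rfl⟩ := surjective_toSpecΓ (S := S) p
    rw [← h s]
    exact (rk_point iX M s).symm
  have h2 := projective_of_rankIdeal (rankIdeal_eq_bot h1) (fun p => (h1 p).le)
  infer_instance

end Geo

end K425.RankAlg
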