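import Groth.Agent.Variety.K425.SecBC
import Groth.Agent.Ega3B.FlatOfPush
import Groth.Agent.Smoothlim.PowSec
import Groth.Agent.Smoothlim.PowGlue
import Groth.Agent.Ega2.TensPow

/-!
# Flatness from flatness of the global sections of large twists
-/

set_option autoImplicit false
universe u
open CategoryTheory CategoryTheory.Limits AlgebraicGeometry TopologicalSpace
open Groth.Agent.Ega4dA.GenSec

namespace K425.TwistFlat

open Groth.Agent K425.SecBC
open Groth.Agent.Ega3B.TwistColim (tw flat_of_flat_tw secModule)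

variable {X S : Scheme.{u}}

/-- Finite affine trivializing cover. -/
theorem exists_cover [CompactSpace X] {L : X.Modules} (hL : PicF.IsInvertible L) :
    ∃ (m : ℕ) (U : Fin m → X.Opens) (e : ∀ i, Γ(L, U i)), (⨆ i, U i = ⊤) ∧ (∀ i, IsAffineOpen (U i)) ∧
      ∀ i, IsGen L (U i) (e i) := by
  have h1 : ∀ x : X, ∃ (U : X.Opens) (e : Γ(L, U)), x ∈ U ∧ IsAffineOpen U ∧ IsGen L U e := by
    intro x
    obtain ⟨V, hV, hx, e, he⟩ := Smoothlim.PowGlue.exists_gen_le hL x (U := ⊤) trivial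
    obtain ⟨_, ⟨W, hW, rfl⟩, hxW, hWV⟩ := X.isBasis_affineOpens.exists_subset_of_mem_open hx V.2
    exact ⟨W, res L hWV e, hxW, hW, he.mono hWV⟩
  choose U e hx hU he using h1
  obtain ⟨t, ht⟩ := isCompact_univ.elim_finite_subcover (fun x => (U x : Set X)) (fun x => (U x).2)
    (fun x _ => Set.mem_iUnion.2 ⟨x, hx x⟩)
  let E := t.equivFin.symm
  refine ⟨t.card, fun i => U (E i), fun i => e (E i), ?_, fun i => hU _, fun i => he _⟩
  rw [eq_top_iff]
  intro x hxt
  obtain ⟨y, hy⟩ := Set.mem_iUnion.1 (ht (Set.mem_univ x))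
  obtain ⟨hyt, hxy⟩ := Set.mem_iUnion.1 hy
  refine Opens.mem_iSup.2 ⟨E.symm ⟨y, hyt⟩, ?_⟩
  simpa using hxy

/-- If `Γ(X, F ⊗ L^n)` is flat for all large `n` then `F` is flat over the (affine) base. -/
theorem isFlatOver_of_sections [IsAffine S] (iX : X ⟶ S) [IsSeparated iX] {L : X.Modules} (hL : CohB1.IsAmple L)
    {F : X.Modules} (hF : Coh.IsQCoh F) (N : ℕ)
    (h : ∀ n, N ≤ n → letI := mS iX (CohB1.tensorMod F (CohB1.tensorPow L n));
      Module.Flat Γ(S, ⊤) Γ(CohB1.tensorMod F (CohB1.tensorPow L n), ⊤)) :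
    FlatMod.IsFlatOver iX F := by
  intro x
  have : CompactSpace X := hL.2.1
  have hsep : X.IsSeparated := by
    have : IsSeparated (terminal.from X) := by
      have : terminal.from X = iX ≫ terminal.from S := terminal.hom_ext _ _
      rw [this]
      infer_instance
    exact ⟨this⟩
  obtain ⟨m, s, hxs, haff⟩ := hL.2.2 x
  have hL' : PicF.IsInvertible (CohB1.tensorPow L (m + 1)) := Fdesc.LocGen.isInvertible_tensorPow hL.1 _
  obtain ⟨r, U, e, hcov, hU, he⟩ := exists_cover hL'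
  let σ : Γ(CohB1.tensorPow L (m + 1), ⊤) := Smoothlim.PowSec.sec s
  choose g hg using fun i => (he i).exists_eq' (res _ (le_top : U i ≤ ⊤) σ)
  have hWU : ∀ i, X.basicOpen (g i) = CohB1.genLocus _ s ⊓ U i := fun i =>
    (Smoothlim.PowSec.genLocus_inf_eq_basicOpen s (he i) (g i) (hg i)).symm
  have hsW : IsGen (CohB1.tensorPow L (m + 1)) (CohB1.genLocus _ s) (res _ le_top σ) :=
    (Smoothlim.PowSec.le_genLocus_iff s _).1 le_rfl
  have key := flat_of_flat_tw hF (Ω := ⊤) σ U (fun _ => le_top) hcov.ge hU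
    (fun i j => (hU i).inf (hU j)) e he g (fun i => (hg i).symm) (W := CohB1.genLocus _ s) le_top hWU hsW
    (rS iX) N (fun n hn => ?_)
  · have e1 : (X.presheaf.map (homOfLE (le_top : CohB1.genLocus _ s ≤ ⊤)).op).hom.comp (rS iX) =
        (iX.appLE ⊤ (CohB1.genLocus _ s) le_top).hom := by
      have := Scheme.Hom.appLE_map iX (U := ⊤) (V := ⊤) le_top (homOfLE (le_top : CohB1.genLocus _ s ≤ ⊤)).op
      rw [rS, ← CommRingCat.hom_comp, this]
    rw [e1] at key
    exact Ega3B.FlatSec.isFlatOverAt_of_flat_sections iX F hF (isAffineOpen_top S) haff le_top key x hxs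
  · obtain ⟨e1⟩ := Ega3B.ProjFrame.nonempty_tensorPow_iso_tw F (CohB1.tensorPow L (m + 1)) n
    let e2 : CohB1.tensorMod F (CohB1.tensorPow L ((m + 1) * n)) ≅ tw F (CohB1.tensorPow L (m + 1)) n :=
      Ega2.Tens.mapTIso (Iso.refl F) (Ega2.TensPow.powMul L (m + 1) n).symm ≪≫ e1
    have h2 := h ((m + 1) * n) (hn.trans (Nat.le_mul_of_pos_left n (Nat.succ_pos m)))
    let i1 := mS iX (CohB1.tensorMod F (CohB1.tensorPow L ((m + 1) * n)))
    let i2 := mS iX (tw F (CohB1.tensorPow L (m + 1)) n)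
    exact Module.Flat.of_linearEquiv (secIso iX e2).symm

end K425.TwistFlat
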