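import Groth.Agent.Variety.K425.ChartModel
import Groth.Agent.Variety.K425.RankAlg
import Groth.Agent.Variety.K425.TwistFlat

/-!
# Flatness and constancy of the Hilbert polynomial over a reduced base
-/

set_option autoImplicit false
universe u
open CategoryTheory CategoryTheory.Limits AlgebraicGeometry TopologicalSpace

namespace K425.FlatCrit

open Groth.Agent K425.SecBC K425.HilbFn K425.FibRank

/-- Affine case. -/
theorem isFlatOver_affine {X S : Scheme.{u}} [IsAffine S] [IsLocallyNoetherian S] [IsReduced S] (f : X ⟶ S) [IsProper f]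
    {L : X.Modules} (hL : CohB1.IsAmple L) {F : X.Modules} (hF : Coh.IsCoh F) (c : ℕ → ℤ)
    (h : ∀ s : S, chi f F L s = c) : FlatMod.IsFlatOver f F := by
  obtain ⟨N, hN⟩ := exists_euler_eq f hL hF
  refine TwistFlat.isFlatOver_of_sections f hL hF.1 N fun n hn => ?_
  have hcoh : Coh.IsCoh (CohB1.tensorMod F (CohB1.tensorPow L n)) :=
    Ega3B.CohTensor.isCoh_tensor hF (Fdesc.LocGen.isInvertible_tensorPow hL.1 n)
  refine RankAlg.flat_of_const f _ (Ega3B.AcycNbhd.finite_sections f _ hcoh) (c := (c n).toNat) fun s => ?_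
  have h1 := hN n hn s
  have h2 : PerfAux.eulerChar f (CohB1.tensorMod F (CohB1.tensorPow L n)) s = c n := congrFun (h s) n
  rw [← h2, h1]
  rfl

theorem isFlatOver_of_charts {X S : Scheme.{u}} (f : X ⟶ S) (F : X.Modules)
    (h : ∀ s : S, ∃ (V : S.Opens) (hV : IsAffineOpen V), s ∈ V ∧
      FlatMod.IsFlatOver (pullback.snd f hV.fromSpec) ((Scheme.Modules.pullback (pullback.fst f hV.fromSpec)).obj F)) :
    FlatMod.IsFlatOver f F := by
  intro x
  obtain ⟨V, hV, hxV, key⟩ := h (f x)
  have H : IsPullback (pullback.fst f hV.fromSpec) (pullback.snd f hV.fromSpec) f hV.fromSpec :=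
    IsPullback.of_hasPullback _ _
  obtain ⟨z, hz⟩ : x ∈ Set.range (pullback.fst f hV.fromSpec) := by
    obtain ⟨y, hy⟩ : f x ∈ Set.range hV.fromSpec := by
      rw [hV.range_fromSpec]
      exact hxV
    obtain ⟨z, hz, -⟩ := Scheme.Pullback.exists_preimage_pullback (f := f) (g := hV.fromSpec) x y hy.symm
    exact ⟨z, hz⟩
  have := Fdesc.FlatBC.isFlatOverAt_of_pullback H F z (key z)
  rwa [show (pullback.fst f hV.fromSpec).base z = x from hz] at this

/-- Locally constant Hilbert polynomial over a reduced base implies flatness. -/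
theorem isFlatOver_of_locallyConstant {X S : Scheme.{u}} [IsLocallyNoetherian S] [IsReduced S] (f : X ⟶ S) [IsProper f]
    {L : X.Modules} (hL : RelAmple.IsRelAmple f L) {F : X.Modules} (hF : Coh.IsCoh F)
    (h : ∀ s : S, ∃ U : S.Opens, s ∈ U ∧ ∀ s' : S, s' ∈ U → chi f F L s' = chi f F L s) :
    FlatMod.IsFlatOver f F := by
  have : IsLocallyNoetherian X := LocallyOfFiniteType.isLocallyNoetherian f
  have hFP : CohB1.IsFP F := (S0018.result X F).1 hF
  have hLi := CalgB.AmpleRel.isInvertible_of_isRelAmple hL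
  refine isFlatOver_of_charts f F fun s => ?_
  obtain ⟨U, hsU, hU⟩ := h s
  obtain ⟨_, ⟨V, hV, rfl⟩, hsV, hVU⟩ := S.isBasis_affineOpens.exists_subset_of_mem_open hsU U.2
  have hV : IsAffineOpen V := hV
  refine ⟨V, hV, hsV, ?_⟩
  have : IsLocallyNoetherian (Spec Γ(S, V)) := LocallyOfFiniteType.isLocallyNoetherian hV.fromSpec
  have : IsReduced (Spec Γ(S, V)) := isReduced_of_isOpenImmersion hV.fromSpec
  refine isFlatOver_affine _ (Chart.isAmple_pullback_of_relAmple hL hV.fromSpec)
    (FormalB.PullCoh.isCoh_pullback _ hF) (chi f F L s) fun y => ?_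
  rw [chi_bc (IsPullback.of_hasPullback f hV.fromSpec) hFP hLi y]
  refine hU _ (hVU ?_)
  have : hV.fromSpec y ∈ Set.range hV.fromSpec := ⟨y, rfl⟩
  rw [hV.range_fromSpec] at this
  exact this

end K425.FlatCrit
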