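import Groth.Agent.Flat2H.AmpleModel
import Groth.Agent.PerfB.ApproxMain
import Groth.Agent.Variety.K425.Strat
import Groth.Agent.Fdesc.LocGenPullback

/-!
# Noetherian models of polarized families of finitely presented modules
-/

set_option autoImplicit false
universe u
open CategoryTheory CategoryTheory.Limits AlgebraicGeometry TopologicalSpace Opposite

namespace K425.PolModel

open Groth.Agent Groth.Agent.CalgA.LimFP Groth.Agent.Ega3B.LimInv Groth.Agent.Flat2H.FamDict
open Groth.Agent.Flat2D.SpecFGLimit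

attribute [local instance] Mdl.lfp Mdl.qc Mdl.qs

/-- `(X, L, F)` over `Spec A` with `L` ample comes from a finitely generated subring. -/
theorem exists_pol_model (A : Type u) [CommRing A] {X : Scheme.{u}} (f : X ⟶ Spec (CommRingCat.of A)) [IsProper f]
    [LocallyOfFinitePresentation f] {F : X.Modules} (hF : CohB1.IsFP F) {L : X.Modules} (hL : CohB1.IsAmple L) :
    ∃ (A₀ : Subalgebra ℤ A) (_ : A₀.FG) (X₀ : Scheme.{u}) (f₀ : X₀ ⟶ Spec (CommRingCat.of A₀)) (g : X ⟶ X₀)
      (F₀ L₀ : X₀.Modules), IsPullback g f f₀ (Spec.map (CommRingCat.ofHom A₀.val.toRingHom)) ∧ IsProper f₀ ∧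
      LocallyOfFinitePresentation f₀ ∧ CohB1.IsAmple L₀ ∧ CohB1.IsFP F₀ ∧
      Nonempty ((Scheme.Modules.pullback g).obj F₀ ≅ F) ∧ Nonempty ((Scheme.Modules.pullback g).obj L₀ ≅ L) ∧
      (FlatMod.IsFlatOver f F → FlatMod.IsFlatOver f₀ F₀) := by
  obtain ⟨A₀, X₀, f₀, g, F₀, hFG, lofp, qc, qs, H, hFP, ⟨e⟩, hflat, -, hprop, -, -⟩ :=
    PerfB.ApproxMain.exists_noetherian_model A f F hF
  have i1 : ∀ i, CompactSpace ((specDiagram A).obj i) := fun i => inferInstance
  have i2 : ∀ i, QuasiSeparatedSpace ((specDiagram A).obj i) := fun i => inferInstance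
  have i3 : LocallyOfFinitePresentation (Y := (specCone A).pt) f := ‹_›
  have i4 : IsProper (Y := (specCone A).pt) f := ‹_›
  let i : (FGSub A)ᵒᵖ := op ⟨A₀, hFG⟩
  let M : Mdl (D := specDiagram A) (c := specCone A) f i :=
    { A := X₀, f := f₀, p := g, h := H, lfp := lofp, qc := qc, qs := qs }
  have p0 : IsProper M.f := hprop inferInstance
  obtain ⟨k, b, L₀, hL₀, ⟨e'⟩⟩ := Mdl.exists_invertible (isLimitSpecCone A) M hL.1
  let N := M.bc b
  obtain ⟨l, d, hl⟩ := Flat2H.AmpleModel.Mdl.exists_isAmple (isLimitSpecCone A) N hL₀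
    (isAmple_of_iso e'.symm hL)
  have hp : (N.bc d).p ≫ pullback.fst N.f ((specDiagram A).map d) = N.p := by
    simp only [Mdl.bc]
    exact pullback.lift_fst _ _ _
  have hp' : N.p ≫ pullback.fst M.f ((specDiagram A).map b) = M.p := by
    simp only [N, Mdl.bc]
    exact pullback.lift_fst _ _ _
  have p1 : IsProper N.f := inferInstanceAs (IsProper (pullback.snd M.f ((specDiagram A).map b)))
  have p2 : IsProper (N.bc d).f := inferInstanceAs (IsProper (pullback.snd N.f ((specDiagram A).map d)))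
  refine ⟨l.unop.1, l.unop.2, (N.bc d).A, (N.bc d).f, (N.bc d).p,
    (Scheme.Modules.pullback (pullback.fst N.f ((specDiagram A).map d))).obj
      ((Scheme.Modules.pullback (pullback.fst M.f ((specDiagram A).map b))).obj F₀),
    (Scheme.Modules.pullback (pullback.fst N.f ((specDiagram A).map d))).obj L₀,
    (N.bc d).h, p2, (N.bc d).lfp, hl, ?_, ⟨?_⟩, ⟨?_⟩, fun h => ?_⟩
  · exact FormalA.PullbackQC.isFP_pullback _ _ (FormalA.PullbackQC.isFP_pullback _ _ hFP)
  · exact (Scheme.Modules.pullbackComp _ _).app _ ≪≫ (Scheme.Modules.pullbackCongr hp).app _ ≪≫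
      (Scheme.Modules.pullbackComp _ _).app F₀ ≪≫ (Scheme.Modules.pullbackCongr hp').app F₀ ≪≫ e
  · exact (Scheme.Modules.pullbackComp _ _).app L₀ ≪≫ (Scheme.Modules.pullbackCongr hp).app L₀ ≪≫ e'
  · exact Strat.isFlatOver_pullback (IsPullback.of_hasPullback N.f ((specDiagram A).map d)) _
      (Strat.isFlatOver_pullback (IsPullback.of_hasPullback M.f ((specDiagram A).map b)) _ (hflat h))

end K425.PolModel
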