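import Groth.Agent.Variety.K425.HilbFn
import Groth.Agent.Variety.K425.PolModel
import Groth.Agent.Models2.FPCoh
import Groth.Agent.CalgB.AmpleRel

/-!
# Noetherian models on charts, and closedness of the set of points with large Hilbert polynomial
-/

set_option autoImplicit false
universe u
open CategoryTheory CategoryTheory.Limits AlgebraicGeometry TopologicalSpace

namespace K425.ChartModel

open Groth.Agent K425.HilbFn

/-- The chart at an affine open subset comes from a Noetherian affine scheme. -/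
theorem exists_chart_model {X S : Scheme.{u}} (f : X ⟶ S) [IsProper f] [LocallyOfFinitePresentation f]
    {L : X.Modules} (hL : RelAmple.IsRelAmple f L) {F : X.Modules} (hF : CohB1.IsFP F) {V : S.Opens}
    (hV : IsAffineOpen V) :
    ∃ (S₀ X₀ : Scheme.{u}) (f₀ : X₀ ⟶ S₀) (q : Spec Γ(S, V) ⟶ S₀) (g : pullback f hV.fromSpec ⟶ X₀)
      (F₀ L₀ : X₀.Modules), IsAffine S₀ ∧ IsLocallyNoetherian S₀ ∧ IsPullback g (pullback.snd f hV.fromSpec) f₀ q ∧
      IsProper f₀ ∧ CohB1.IsAmple L₀ ∧ Coh.IsCoh F₀ ∧ CohB1.IsFP F₀ ∧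
      Nonempty ((Scheme.Modules.pullback g).obj F₀ ≅ (Scheme.Modules.pullback (pullback.fst f hV.fromSpec)).obj F) ∧
      Nonempty ((Scheme.Modules.pullback g).obj L₀ ≅ (Scheme.Modules.pullback (pullback.fst f hV.fromSpec)).obj L) ∧
      (∀ y : Spec Γ(S, V), chi f₀ F₀ L₀ (q y) = chi f F L (hV.fromSpec y)) := by
  have hLi := CalgB.AmpleRel.isInvertible_of_isRelAmple hL
  have hamp := Chart.isAmple_pullback_of_relAmple hL hV.fromSpec
  obtain ⟨A₀, hFG, X₀, f₀, g, F₀, L₀, H, hprop, lofp, hL₀, hF₀, ⟨eF⟩, ⟨eL⟩, -⟩ :=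
    PolModel.exists_pol_model Γ(S, V) (pullback.snd f hV.fromSpec)
      (FormalA.PullbackQC.isFP_pullback (pullback.fst f hV.fromSpec) _ hF) hamp
  have : Algebra.FiniteType ℤ A₀ := A₀.fg_iff_finiteType.1 hFG
  have : IsNoetherianRing A₀ := Algebra.FiniteType.isNoetherianRing ℤ A₀
  refine ⟨Spec (CommRingCat.of A₀), X₀, f₀, _, g, F₀, L₀, inferInstance, inferInstance, H, hprop, hL₀,
    Models2.FPCoh.isCoh_of_isFP hF₀, hF₀, ⟨eF⟩, ⟨eL⟩, fun y => ?_⟩
  rw [← chi_bc H hF₀ hL₀.1 y, ← chi_bc (IsPullback.of_hasPullback f hV.fromSpec) hF hLi y]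
  exact chi_congr _ eF eL y

/-- Closedness of the set of points with large Hilbert polynomial, Noetherian affine case. -/
theorem isClosed_affine {X S : Scheme.{u}} [IsAffine S] [IsLocallyNoetherian S] (f : X ⟶ S) [IsProper f]
    {L : X.Modules} (hL : CohB1.IsAmple L) {F : X.Modules} (hF : Coh.IsCoh F) (Φ : Polynomial ℚ) :
    IsClosed {s : S | ∃ N : ℕ, ∀ n : ℕ, N ≤ n → Φ.eval (n : ℚ) ≤ (chi f F L s n : ℚ)} := by
  have : LocallyOfFinitePresentation f := Uniform.lofp_of_noetherian f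
  have : IsLocallyNoetherian X := LocallyOfFiniteType.isLocallyNoetherian f
  have hFP : CohB1.IsFP F := (S0018.result X F).1 hF
  obtain ⟨N₁, h₁⟩ := exists_threshold f hFP hL.1 Φ
  obtain ⟨N₂, h₂⟩ := FibRank.exists_euler_eq f hL hF
  let n := max N₁ N₂
  have hcoh : Coh.IsCoh (CohB1.tensorMod F (CohB1.tensorPow L n)) :=
    Ega3B.CohTensor.isCoh_tensor hF (Fdesc.LocGen.isInvertible_tensorPow hL.1 n)
  have key : {s : S | ∃ N : ℕ, ∀ n : ℕ, N ≤ n → Φ.eval (n : ℚ) ≤ (chi f F L s n : ℚ)} =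
      {s : S | ⌈Φ.eval (n : ℚ)⌉₊ ≤ FibRank.rk f (CohB1.tensorMod F (CohB1.tensorPow L n))
        (K := S.residueField s) (S.fromSpecResidueField s)} := by
    ext s
    have h3 : (chi f F L s n : ℚ) = (FibRank.rk f (CohB1.tensorMod F (CohB1.tensorPow L n))
        (K := S.residueField s) (S.fromSpecResidueField s) : ℚ) := by
      have := h₂ n (le_max_right _ _) s
      exact congrArg (Int.cast : ℤ → ℚ) this
    simp only [Set.mem_ofPred_eq, Nat.ceil_le]
    rw [← h3]
    rcases (h₁ s).1 with h | h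
    · exact ⟨fun _ => h n (le_max_left _ _), fun _ => ⟨N₁, h⟩⟩
    · refine ⟨?_, fun h4 => absurd h4 (not_le.2 (h n (le_max_left _ _)))⟩
      rintro ⟨N, hN⟩
      exact absurd (hN (max N N₁) (le_max_left _ _)) (not_le.2 (h _ (le_max_right _ _)))
  rw [key]
  exact FibRank.isClosed_rk f _ (Ega3B.AcycNbhd.finite_sections f _ hcoh) _

theorem isClosed_of_affine {S : Scheme.{u}} (C : Set S)
    (h : ∀ (V : S.Opens) (hV : IsAffineOpen V), IsClosed (hV.fromSpec ⁻¹' C)) : IsClosed C := by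
  have h1 : ∀ V : S.affineOpens, IsClosed ((Subtype.val : (V.1 : Set S) → S) ⁻¹' C) := fun V => by
    have hV : IsAffineOpen V.1 := V.2
    have h2 := (h V.1 hV).preimage hV.isoSpec.hom.continuous
    have h3 : (Subtype.val : (V.1 : Set S) → S) ⁻¹' C = hV.isoSpec.hom ⁻¹' (hV.fromSpec ⁻¹' C) := by
      refine Set.ext fun x => ?_
      have h4 : hV.fromSpec (hV.isoSpec.hom x) = V.1.ι x := by
        rw [← Scheme.Hom.comp_apply, hV.isoSpec_hom_fromSpec]
      exact iff_of_eq (congrArg (· ∈ C) h4.symm)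
    rw [h3]
    exact h2
  exact (IsOpenCover.mk (iSup_affineOpens_eq_top S)).isClosed_iff_coe_preimage.2 h1

/-- Closedness of the set of points with large Hilbert polynomial. -/
theorem isClosed_ge {X S : Scheme.{u}} (f : X ⟶ S) [IsProper f] [LocallyOfFinitePresentation f]
    {L : X.Modules} (hL : RelAmple.IsRelAmple f L) {F : X.Modules} (hF : CohB1.IsFP F) (Φ : Polynomial ℚ) :
    IsClosed {s : S | ∃ N : ℕ, ∀ n : ℕ, N ≤ n → Φ.eval (n : ℚ) ≤ (chi f F L s n : ℚ)} := by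
  refine isClosed_of_affine _ fun V hV => ?_
  obtain ⟨S₀, X₀, f₀, q, g, F₀, L₀, haff, hN, H, hprop, hL₀, hF₀, -, -, -, hchi⟩ := exists_chart_model f hL hF hV
  have h1 := (isClosed_affine f₀ hL₀ hF₀ Φ).preimage q.continuous
  convert h1 using 1
  ext y
  simp only [Set.mem_preimage, Set.mem_ofPred_eq, hchi]

end K425.ChartModel
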