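import Groth.Agent.Variety.K425.Uniform
import Groth.Agent.Variety.K425.FibEuler
import Groth.Agent.Variety.K425.Chart
import Groth.Agent.Fga.GrRank2

/-!
# Euler characteristics of fibres as ranks of a finite module
-/

set_option autoImplicit false
universe u
open CategoryTheory CategoryTheory.Limits AlgebraicGeometry TopologicalSpace TensorProduct

namespace K425.FibRank

open Groth.Agent K425.SecBC K425.Chart Groth.Agent.VarietyB.PullSec

/-- Evaluation of global functions at a field valued point. -/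
noncomputable def evt {S : Scheme.{u}} {K : Type u} [Field K] (t : Spec (CommRingCat.of K) ⟶ S) : Γ(S, ⊤) →+* K :=
  ((Scheme.ΓSpecIso (CommRingCat.of K)).hom.hom).comp (rS t)

/-- `dim_K K ⊗ Γ(X, M)`. -/
noncomputable def rk {X S : Scheme.{u}} (iX : X ⟶ S) (M : X.Modules) {K : Type u} [Field K]
    (t : Spec (CommRingCat.of K) ⟶ S) : ℕ :=
  letI := (evt t).toAlgebra
  letI := mS iX M
  Module.finrank K (K ⊗[Γ(S, ⊤)] Γ(M, ⊤))

theorem finrank_HH0 {X S Y : Scheme.{u}} {K : Type u} [Field K] {g : Y ⟶ X} {iX : X ⟶ S}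
    {iY : Y ⟶ Spec (CommRingCat.of K)} {t : Spec (CommRingCat.of K) ⟶ S} (w : g ≫ iX = iY ≫ t) {M : X.Modules}
    (h : SBC w M) :
    letI : Y.Over (Spec (CommRingCat.of K)) := ⟨iY⟩
    Module.finrank K (Coh.HH Y ((Scheme.Modules.pullback g).obj M) 0) = rk iX M t := by
  let _ : Y.Over (Spec (CommRingCat.of K)) := ⟨iY⟩
  let N := (Scheme.Modules.pullback g).obj M
  let i0 := mS iX M
  let i1 := mS iY N
  let e := (Scheme.ΓSpecIso (CommRingCat.of K)).commRingCatIsoToRingEquiv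
  let i2 : Module K Γ(N, ⊤) := Module.compHom _ (e.symm : K →+* Γ(Spec (CommRingCat.of K), ⊤))
  have h1 : CohqA.BaseChangeMod.IsBC (e : Γ(Spec (CommRingCat.of K), ⊤) →+* K) (AddMonoidHom.id Γ(N, ⊤)) := by
    refine CohqA.BaseChangeMod.IsBC.of_bijective _ e.bijective _ Function.bijective_id fun r x => ?_
    change r • x = e.symm (e r) • x
    rw [e.symm_apply_apply]
  have h2 : CohqA.BaseChangeMod.IsBC (evt t) (sec g M (U := ⊤) (V := ⊤) le_top) :=
    CohqA.BaseChangeMod.IsBC.comp h h1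
  let _ := (evt t).toAlgebra
  obtain ⟨e1⟩ := bc_equiv h2
  let e0 : Coh.HH Y N 0 ≃+ Γ(N, ⊤) := Sheaf.H.equiv₀ (Coh.toAb N) (T := ⊤) isTerminalTop
  let e2 : Coh.HH Y N 0 ≃ₗ[K] Γ(N, ⊤) :=
    { e0 with
      map_smul' := fun a x =>
        (Sheaf.H.equiv₀_naturality (T := ⊤) isTerminalTop (Coh.smulAb N (Coh.toGlobal iY a)) x).symm }
  exact e2.finrank_eq.trans e1.finrank_eq.symm

theorem evt_ne_zero_iff {S : Scheme.{u}} {K : Type u} [Field K] (t : Spec (CommRingCat.of K) ⟶ S)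
    (x : Spec (CommRingCat.of K)) (a : Γ(S, ⊤)) : evt t a ≠ 0 ↔ t x ∈ S.basicOpen a := by
  have h0 : evt t a ≠ 0 ↔ t.appTop a ≠ 0 := by
    have h1 : evt t a = (Scheme.ΓSpecIso (CommRingCat.of K)).commRingCatIsoToRingEquiv (t.appTop a) := by
      rw [← rS_apply]
      rfl
    rw [h1, Ne, EmbeddingLike.map_eq_zero_iff]
  rw [h0]
  constructor
  · exact fun h => Ega3B.AcycNbhd.mem_basicOpen t x a h
  · intro h h2
    have h1 : x ∈ t ⁻¹ᵁ (S.basicOpen a) := h
    rw [Scheme.preimage_basicOpen_top, h2, Scheme.basicOpen_zero] at h1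
    exact h1

/-- Semicontinuity of the rank. -/
theorem rk_semicontinuous {X S : Scheme.{u}} (iX : X ⟶ S) (M : X.Modules)
    (hfin : letI := mS iX M; Module.Finite Γ(S, ⊤) Γ(M, ⊤)) {K : Type u} [Field K]
    (t : Spec (CommRingCat.of K) ⟶ S) :
    ∃ a : Γ(S, ⊤), evt t a ≠ 0 ∧ ∀ (K' : Type u) [Field K'] (t' : Spec (CommRingCat.of K') ⟶ S),
      evt t' a ≠ 0 → rk iX M t' ≤ rk iX M t := by
  let i0 := mS iX M
  let i1 := (evt t).toAlgebra
  obtain ⟨s, hs, h⟩ := Fga.GrRank.exists_semicontinuous (A := Γ(S, ⊤)) (M := Γ(M, ⊤)) K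
  refine ⟨s, hs, fun K' _ t' ht' => ?_⟩
  let i2 := (evt t').toAlgebra
  exact h K' ht'

theorem isClosed_rk {X S : Scheme.{u}} (iX : X ⟶ S) (M : X.Modules)
    (hfin : letI := mS iX M; Module.Finite Γ(S, ⊤) Γ(M, ⊤)) (m : ℕ) :
    IsClosed {s : S | m ≤ rk iX M (K := S.residueField s) (S.fromSpecResidueField s)} := by
  rw [← isOpen_compl_iff, isOpen_iff_forall_mem_open]
  intro s hs
  obtain ⟨a, ha, h⟩ := rk_semicontinuous iX M hfin (K := S.residueField s) (S.fromSpecResidueField s)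
  refine ⟨S.basicOpen a, fun s' hs' => ?_, (S.basicOpen a).2, ?_⟩
  · have h1 := h (S.residueField s') (S.fromSpecResidueField s') ((evt_ne_zero_iff _ default a).2 (by
      rw [Scheme.fromSpecResidueField_apply]
      exact hs'))
    simp only [Set.mem_compl_iff, Set.mem_ofPred_eq, not_le] at hs ⊢
    exact lt_of_le_of_lt h1 hs
  · have h1 := (evt_ne_zero_iff (K := S.residueField s) (S.fromSpecResidueField s) default a).1 ha
    rw [Scheme.fromSpecResidueField_apply] at h1
    exact h1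

/-- Euler characteristics of the fibres of large twists. -/
theorem exists_euler_eq {X S : Scheme.{u}} [IsAffine S] [IsLocallyNoetherian S] (iX : X ⟶ S) [IsProper iX]
    {L : X.Modules} (hL : CohB1.IsAmple L) {F : X.Modules} (hF : Coh.IsCoh F) :
    ∃ N : ℕ, ∀ n, N ≤ n → ∀ s : S, PerfAux.eulerChar iX (CohB1.tensorMod F (CohB1.tensorPow L n)) s =
      rk iX (CohB1.tensorMod F (CohB1.tensorPow L n)) (K := S.residueField s) (S.fromSpecResidueField s) := by
  obtain ⟨N, hN⟩ := Uniform.uniform iX hL hF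
  refine ⟨N, fun n hn s => ?_⟩
  obtain ⟨h1, h2⟩ := hN n hn (S.residueField s) (S.fromSpecResidueField s)
    (IsPullback.of_hasPullback iX (S.fromSpecResidueField s))
  have h4 := finrank_HH0 (K := S.residueField s) _ h2
  let _ : (iX.fiber s).Over (Spec (CommRingCat.of (S.residueField s))) := ⟨iX.fiberToSpecResidueField s⟩
  have h3 := VarietyA.EulerAdd.euler_eq_sum (S.residueField s) (X := iX.fiber s)
    ((Scheme.Modules.pullback (iX.fiberι s)).obj (CohB1.tensorMod F (CohB1.tensorPow L n))) 1 (fun i hi => by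
      obtain ⟨i, rfl⟩ := Nat.exists_eq_add_of_le' hi
      exact h1 i)
  simp only [Finset.range_one, Finset.sum_singleton, pow_zero, one_mul] at h3
  exact h3.trans (congrArg (Nat.cast : ℕ → ℤ) h4)

end K425.FibRank
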