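import Groth.Agent.Variety.K425.FibFinite
import Groth.Agent.Variety.K425.FibRank
import Mathlib.Analysis.Polynomial.Basic

/-!
# Hilbert functions of the fibres
-/

set_option autoImplicit false
universe u
open CategoryTheory CategoryTheory.Limits AlgebraicGeometry TopologicalSpace Polynomial

namespace K425.HilbFn

open Groth.Agent K425.FibEuler K425.FibFinite

/-- A rational polynomial has a constant sign eventually. -/
theorem exists_sign (Q : Polynomial ℚ) :
    ∃ N : ℕ, (∀ n : ℕ, N ≤ n → 0 ≤ Q.eval (n : ℚ)) ∨ (∀ n : ℕ, N ≤ n → Q.eval (n : ℚ) < 0) := by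
  by_cases hd : 0 < Q.degree
  · rcases le_total 0 Q.leadingCoeff with h | h
    · have h1 := (Q.tendsto_atTop_of_leadingCoeff_nonneg hd h).comp (tendsto_natCast_atTop_atTop (R := ℚ))
      obtain ⟨N, hN⟩ := Filter.eventually_atTop.1 (h1.eventually_ge_atTop 0)
      exact ⟨N, Or.inl fun n hn => hN n hn⟩
    · have h1 := (Q.tendsto_atBot_of_leadingCoeff_nonpos hd h).comp (tendsto_natCast_atTop_atTop (R := ℚ))
      obtain ⟨N, hN⟩ := Filter.eventually_atTop.1 (h1.eventually_lt_atBot 0)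
      exact ⟨N, Or.inr fun n hn => hN n hn⟩
  · rw [not_lt] at hd
    rw [eq_C_of_degree_le_zero hd]
    refine ⟨0, ?_⟩
    simp only [eval_C]
    rcases le_or_gt 0 (Q.coeff 0) with h | h
    · exact Or.inl fun _ _ => h
    · exact Or.inr fun _ _ => h

/-- The Hilbert function of a fibre. -/
noncomputable def chi {X S : Scheme.{u}} (f : X ⟶ S) (F L : X.Modules) (s : S) (n : ℕ) : ℤ :=
  PerfAux.eulerChar f (CohB1.tensorMod F (CohB1.tensorPow L n)) s

variable {X S : Scheme.{u}}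

theorem chi_eq_phi (f : X ⟶ S) (F L : X.Modules) (s : S) :
    chi f F L s = fun n => phi f F 1 (fun _ => L) s (fun _ => n) := rfl

theorem chi_bc {X' S' : Scheme.{u}} {p : X' ⟶ X} {f' : X' ⟶ S'} {f : X ⟶ S} {g : S' ⟶ S} (H : IsPullback p f' f g)
    [QuasiCompact f] [QuasiSeparated f] {F : X.Modules} (hF : CohB1.IsFP F) {L : X.Modules}
    (hL : PicF.IsInvertible L) (s : S') :
    chi f' ((Scheme.Modules.pullback p).obj F) ((Scheme.Modules.pullback p).obj L) s = chi f F L (g s) := by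
  rw [chi_eq_phi, chi_eq_phi, ← phi_bc H F hF 1 (fun _ => L) (fun _ => hL) s]

theorem chi_congr (f : X ⟶ S) {F F' L L' : X.Modules} (e : F ≅ F') (e' : L ≅ L') (s : S) :
    chi f F L s = chi f F' L' s := by
  funext n
  obtain ⟨e1⟩ := Chart.nonempty_twist_congr e e' n
  let _ : (f.fiber s).Over (Spec (CommRingCat.of (S.residueField s))) := ⟨f.fiberToSpecResidueField s⟩
  exact VarietyA.EulerAdd.euler_congr (S.residueField s) ((Scheme.Modules.pullback (f.fiberι s)).mapIso e1)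

theorem finite_range_chi (f : X ⟶ S) [IsProper f] [LocallyOfFinitePresentation f] [CompactSpace S] {F : X.Modules}
    (hF : CohB1.IsFP F) {L : X.Modules} (hL : PicF.IsInvertible L) : (Set.range (chi f F L)).Finite := by
  have h := (finite_range f F hF 1 (fun _ => L) (fun _ => hL)).image (fun φ n => φ (fun _ => n))
  refine h.subset ?_
  rintro _ ⟨s, rfl⟩
  exact ⟨_, ⟨s, rfl⟩, rfl⟩

/-- The Hilbert polynomial of a fibre. -/
theorem exists_poly1 (f : X ⟶ S) [IsProper f] {F : X.Modules} (hF : CohB1.IsFP F) {L : X.Modules}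
    (hL : PicF.IsInvertible L) (s : S) :
    ∃ P : Polynomial ℚ, ∀ n : ℕ, (chi f F L s n : ℚ) = P.eval (n : ℚ) := by
  obtain ⟨d, hd⟩ := exists_dim_le f s
  obtain ⟨P, -, hP⟩ := exists_poly f F hF 1 (fun _ => L) (fun _ => hL) s d hd
  refine ⟨MvPolynomial.aeval (fun _ => Polynomial.X) P, fun n => ?_⟩
  refine (hP (fun _ => n)).trans ?_
  have h1 : MvPolynomial.eval (fun _ : Fin 1 => (n : ℚ)) =
      (evalRingHom (n : ℚ)).comp (MvPolynomial.aeval (R := ℚ) (fun _ : Fin 1 => (Polynomial.X : Polynomial ℚ))).toRingHom := by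
    apply MvPolynomial.ringHom_ext
    · intro r
      simp
    · intro i
      simp
  rw [h1]
  rfl

theorem exists_threshold (f : X ⟶ S) [IsProper f] [LocallyOfFinitePresentation f] [CompactSpace S] {F : X.Modules}
    (hF : CohB1.IsFP F) {L : X.Modules} (hL : PicF.IsInvertible L) (Φ : Polynomial ℚ) :
    ∃ N : ℕ, ∀ s : S, ((∀ n : ℕ, N ≤ n → Φ.eval (n : ℚ) ≤ chi f F L s n) ∨
        (∀ n : ℕ, N ≤ n → (chi f F L s n : ℚ) < Φ.eval (n : ℚ))) ∧
      ((∀ n : ℕ, N ≤ n → (chi f F L s n : ℚ) ≤ Φ.eval (n : ℚ)) ∨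
        (∀ n : ℕ, N ≤ n → Φ.eval (n : ℚ) < chi f F L s n)) := by
  have hfin := (finite_range_chi f hF hL).to_subtype
  have h1 : ∀ c : Set.range (chi f F L), ∃ N : ℕ, ((∀ n : ℕ, N ≤ n → Φ.eval (n : ℚ) ≤ c.1 n) ∨
        (∀ n : ℕ, N ≤ n → (c.1 n : ℚ) < Φ.eval (n : ℚ))) ∧
      ((∀ n : ℕ, N ≤ n → (c.1 n : ℚ) ≤ Φ.eval (n : ℚ)) ∨
        (∀ n : ℕ, N ≤ n → Φ.eval (n : ℚ) < c.1 n)) := by
    rintro ⟨_, s, rfl⟩
    obtain ⟨P, hP⟩ := exists_poly1 f hF hL s
    obtain ⟨N₁, h₁⟩ := exists_sign (P - Φ)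
    obtain ⟨N₂, h₂⟩ := exists_sign (Φ - P)
    refine ⟨max N₁ N₂, ?_, ?_⟩
    · rcases h₁ with h | h
      · refine Or.inl fun n hn => ?_
        have := h n ((le_max_left _ _).trans hn)
        rw [eval_sub, sub_nonneg, ← hP] at this
        exact this
      · refine Or.inr fun n hn => ?_
        have := h n ((le_max_left _ _).trans hn)
        rw [eval_sub, sub_neg, ← hP] at this
        exact this
    · rcases h₂ with h | h
      · refine Or.inl fun n hn => ?_
        have := h n ((le_max_right _ _).trans hn)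
        rw [eval_sub, sub_nonneg, ← hP] at this
        exact this
      · refine Or.inr fun n hn => ?_
        have := h n ((le_max_right _ _).trans hn)
        rw [eval_sub, sub_neg, ← hP] at this
        exact this
  choose N hN using h1
  obtain ⟨B, hB⟩ := Finite.bddAbove_range N
  refine ⟨B, fun s => ?_⟩
  have hs := hB ⟨⟨_, s, rfl⟩, rfl⟩
  obtain ⟨h1, h2⟩ := hN ⟨_, s, rfl⟩
  exact ⟨h1.imp (fun h n hn => h n (hs.trans hn)) (fun h n hn => h n (hs.trans hn)),
    h2.imp (fun h n hn => h n (hs.trans hn)) (fun h n hn => h n (hs.trans hn))⟩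

/-- Agreement of the Hilbert function with a polynomial for large arguments. -/
theorem eq_of_eventually (f : X ⟶ S) [IsProper f] {F : X.Modules} (hF : CohB1.IsFP F) {L : X.Modules}
    (hL : PicF.IsInvertible L) (s : S) (Φ : Polynomial ℚ) (N : ℕ)
    (h : ∀ n, N ≤ n → (chi f F L s n : ℚ) = Φ.eval (n : ℚ)) (n : ℕ) : (chi f F L s n : ℚ) = Φ.eval (n : ℚ) := by
  obtain ⟨P, hP⟩ := exists_poly1 f hF hL s
  have : P = Φ := by
    refine Polynomial.eq_of_infinite_eval_eq P Φ ?_
    refine Set.Infinite.mono (s := (fun n : ℕ => (n : ℚ)) '' Set.Ici N) ?_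
      ((Set.Ici_infinite N).image (Nat.cast_injective.injOn))
    rintro _ ⟨n, hn, rfl⟩
    change P.eval (n : ℚ) = Φ.eval (n : ℚ)
    rw [← hP, h n hn]
  rw [hP, this]

end K425.HilbFn
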