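import Groth.Agent.Variety.K425.Strata
import Groth.Agent.Ega2.RelAmp

/-!
# The strata of the flattening stratification are of finite presentation
-/

set_option autoImplicit false
universe u
open CategoryTheory CategoryTheory.Limits AlgebraicGeometry TopologicalSpace

namespace K425.StrataFP

open Groth.Agent K425.HilbFn K425.Strat K425.Strata

variable {X S : Scheme.{u}} (f : X ⟶ S) [IsProper f] [LocallyOfFinitePresentation f]
    {L : X.Modules} (hL : RelAmple.IsRelAmple f L) {F : X.Modules} (hF : CohB1.IsFP F) (Φ : Polynomial ℚ)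

include hL hF in
/-- Locally the stratum is the base change of a stratum over a Noetherian scheme. -/
theorem exists_local {W : Scheme.{u}} (i : W ⟶ S) [IsImmersion i]
    (hi : ∀ {T : Scheme.{u}} (g : T ⟶ S), (∃ h : T ⟶ W, h ≫ i = g) ↔ Cond f L F Φ g) {V : S.Opens}
    (hV : IsAffineOpen V) : ∃ (W' : Scheme.{u}) (e : (i ⁻¹ᵁ V).toScheme ≅ W') (i' : W' ⟶ V.toScheme),
      e.hom ≫ i' = i ∣_ V ∧ QuasiCompact i' ∧ LocallyOfFinitePresentation i' := by
  have hLi := CalgB.AmpleRel.isInvertible_of_isRelAmple hL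
  obtain ⟨S₀, X₀, f₀, q, g, F₀, L₀, haff, hN, H, hprop, hL₀, hF₀, hF₀', ⟨eF⟩, ⟨eL⟩, -⟩ :=
    ChartModel.exists_chart_model f hL hF hV
  have hlofp₀ : LocallyOfFinitePresentation f₀ := Uniform.lofp_of_noetherian f₀
  obtain ⟨W₀, i₀, hi₀, huniv₀⟩ := exists_stratum f₀ (Ega2.RelAmp.isRelAmple_iff_isAmple.2 hL₀) hF₀' Φ
  have hqc₀ : QuasiCompact i₀ := by
    have h1 : IsNoetherian S₀ := ⟨⟩
    have h2 : NoetherianSpace W₀ := i₀.isEmbedding.isInducing.noetherianSpace
    infer_instance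
  have hfp₀ : LocallyOfFinitePresentation i₀ := Uniform.lofp_of_noetherian i₀
  let qV : V.toScheme ⟶ S₀ := hV.isoSpec.hom ≫ q
  have hcond : ∀ {T : Scheme.{u}} (h : T ⟶ V.toScheme), Cond f L F Φ (h ≫ V.ι) ↔ Cond f₀ L₀ F₀ Φ (h ≫ qV) := by
    intro T h
    rw [← hV.isoSpec_hom_fromSpec, ← Category.assoc, ← Category.assoc, ← cond_bc H hF₀' hL₀.1 eF eL Φ _,
      ← cond_bc (IsPullback.of_hasPullback f hV.fromSpec) hF hLi (Iso.refl _) (Iso.refl _) Φ _]
  have hsq : IsPullback (i ⁻¹ᵁ V).ι (i ∣_ V) i V.ι := (isPullback_morphismRestrict i V).flip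
  -- the two maps
  obtain ⟨k, hk⟩ := (huniv₀ ((i ∣_ V) ≫ qV)).2 ((hcond _).1 ((hi _).1 ⟨(i ⁻¹ᵁ V).ι, hsq.w⟩))
  let a : (i ⁻¹ᵁ V).toScheme ⟶ pullback i₀ qV := pullback.lift k (i ∣_ V) hk
  have ha : a ≫ pullback.snd i₀ qV = i ∣_ V := pullback.lift_snd _ _ _
  obtain ⟨k', hk'⟩ := (hi (pullback.snd i₀ qV ≫ V.ι)).2 ((hcond _).2 ((huniv₀ _).1
    ⟨pullback.fst i₀ qV, pullback.condition⟩))
  let b : pullback i₀ qV ⟶ (i ⁻¹ᵁ V).toScheme := hsq.lift k' (pullback.snd i₀ qV) hk'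
  have hb : b ≫ i ∣_ V = pullback.snd i₀ qV := hsq.lift_snd _ _ _
  refine ⟨pullback i₀ qV, ⟨a, b, ?_, ?_⟩, pullback.snd i₀ qV, ha, inferInstance, inferInstance⟩
  · rw [← cancel_mono (i ∣_ V), Category.assoc, hb, ha, Category.id_comp]
  · rw [← cancel_mono (pullback.snd i₀ qV), Category.assoc, ha, hb, Category.id_comp]

include hL hF in
theorem fp_of_universal {W : Scheme.{u}} (i : W ⟶ S) [IsImmersion i]
    (hi : ∀ {T : Scheme.{u}} (g : T ⟶ S), (∃ h : T ⟶ W, h ≫ i = g) ↔ Cond f L F Φ g) :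
    QuasiCompact i ∧ LocallyOfFinitePresentation i := by
  constructor
  · refine IsZariskiLocalAtTarget.of_iSup_eq_top (P := @QuasiCompact) (fun V : S.affineOpens => V.1)
      (iSup_affineOpens_eq_top S) fun V => ?_
    obtain ⟨W', e, i', he, h1, h2⟩ := exists_local f hL hF Φ i hi V.2
    rw [← he]
    infer_instance
  · refine IsZariskiLocalAtTarget.of_iSup_eq_top (P := @LocallyOfFinitePresentation) (fun V : S.affineOpens => V.1)
      (iSup_affineOpens_eq_top S) fun V => ?_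
    obtain ⟨W', e, i', he, h1, h2⟩ := exists_local f hL hF Φ i hi V.2
    rw [← he]
    infer_instance

include hL hF in
/-- **The flattening stratification.** -/
theorem exists_stratum' : ∃ (W : Scheme.{u}) (i : W ⟶ S), IsImmersion i ∧ QuasiCompact i ∧
    LocallyOfFinitePresentation i ∧ Set.range i = {s : S | ∀ n : ℕ, (chi f F L s n : ℚ) = Φ.eval (n : ℚ)} ∧
    ∀ {T : Scheme.{u}} (g : T ⟶ S), (∃ h : T ⟶ W, h ≫ i = g) ↔ Cond f L F Φ g := by
  obtain ⟨W, i, hi, huniv⟩ := exists_stratum f hL hF Φ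
  obtain ⟨h1, h2⟩ := fp_of_universal f hL hF Φ i huniv
  refine ⟨W, i, hi, h1, h2, ?_, huniv⟩
  ext s
  constructor
  · rintro ⟨w, rfl⟩
    exact ((huniv i).1 ⟨𝟙 _, Category.id_comp _⟩).2 w
  · intro hs
    have h3 : Cond f L F Φ (S.fromSpecResidueField s) := by
      refine ⟨flat_over_field (K := S.residueField s) _ _, fun t n => ?_⟩
      rw [Scheme.fromSpecResidueField_apply]
      exact hs n
    obtain ⟨k, hk⟩ := (huniv _).2 h3
    refine ⟨k default, ?_⟩
    have : (k ≫ i) default = s := by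
      rw [hk, Scheme.fromSpecResidueField_apply]
    exact this

end K425.StrataFP
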