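import Groth.Agent.Variety.K425.ClosedBC
import Groth.Agent.Variety.K425.Strat
import Groth.Agent.S0018
import Groth.Agent.Ega3B.FlatTensInv
import Groth.Agent.Models2.FlatIso

/-!
# Uniform vanishing and base change to the fibres
-/

set_option autoImplicit false
universe u
open CategoryTheory CategoryTheory.Limits AlgebraicGeometry TopologicalSpace

namespace K425.Uniform

open Groth.Agent K425.SecBC K425.QuotBC K425.ClosedBC K425.Strat

theorem evBC_immersion {S T : Scheme.{u}} [IsAffine S] [IsLocallyNoetherian S] [IsAffine T] (f : T ⟶ S)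
    [IsImmersion f] : EvBC f := by
  have h0 : QuasiCompact f := inferInstance
  have h1 : IsAffine f.image := isAffine_of_isAffineHom f.imageι
  have h2 : IsLocallyNoetherian f.image := LocallyOfFiniteType.isLocallyNoetherian f.imageι
  rw [← f.toImage_imageι]
  exact EvBC.comp (evBC_closedImmersion f.imageι) (evBC_flat f.toImage)

/-- A morphism from a reduced scheme lifts along an immersion if it does set-theoretically. -/
theorem exists_lift_immersion {W S T : Scheme.{u}} (g : W ⟶ S) [IsImmersion g] [IsReduced T] (t : T ⟶ S)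
    (h : Set.range t ⊆ Set.range g) : ∃ t' : T ⟶ W, t' ≫ g = t := by
  have h1 : Function.Surjective (pullback.fst t g) := by
    intro x
    obtain ⟨w, hw⟩ := h ⟨x, rfl⟩
    obtain ⟨z, hz, -⟩ := Scheme.Pullback.exists_preimage_pullback (f := t) (g := g) x w hw.symm
    exact ⟨z, hz⟩
  have h2 : Surjective (pullback.fst t g) := ⟨h1⟩
  have h3 : IsClosedImmersion (pullback.fst t g) :=
    .of_isPreimmersion _ (by rw [h1.range_eq]; exact isClosed_univ)
  have h4 : IsIso (pullback.fst t g) := isIso_of_isClosedImmersion_of_surjective _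
  refine ⟨inv (pullback.fst t g) ≫ pullback.snd t g, ?_⟩
  rw [Category.assoc, ← pullback.condition, IsIso.inv_hom_id_assoc]

theorem lofp_of_noetherian {X Y : Scheme.{u}} (f : X ⟶ Y) [IsLocallyNoetherian Y] [LocallyOfFiniteType f] :
    LocallyOfFinitePresentation f where
  finitePresentation_appLE {U} hU {V} hV e := by
    have : IsNoetherianRing Γ(Y, U) := IsLocallyNoetherian.component_noetherian ⟨U, hU⟩
    exact RingHom.FinitePresentation.of_finiteType.1 (f.finiteType_appLE hU hV e)

/-- Uniform vanishing and base change to field valued points. -/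
theorem uniform {X S : Scheme.{u}} [IsAffine S] [IsLocallyNoetherian S] (iX : X ⟶ S) [IsProper iX] {L : X.Modules}
    (hL : CohB1.IsAmple L) {F : X.Modules} (hF : Coh.IsCoh F) :
    ∃ N : ℕ, ∀ n, N ≤ n → ∀ (K : Type u) [Field K] (t : Spec (CommRingCat.of K) ⟶ S) {Y : Scheme.{u}} {g : Y ⟶ X}
      {iY : Y ⟶ Spec (CommRingCat.of K)} (H : IsPullback g iY iX t),
      (∀ p, Subsingleton (Coh.HH Y ((Scheme.Modules.pullback g).obj
        (CohB1.tensorMod F (CohB1.tensorPow L n))) (p + 1))) ∧
      SBC H.w (CohB1.tensorMod F (CohB1.tensorPow L n)) := by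
  have : LocallyOfFinitePresentation iX := lofp_of_noetherian iX
  have : IsLocallyNoetherian X := LocallyOfFiniteType.isLocallyNoetherian iX
  have hFP : CohB1.IsFP F := (S0018.result X F).1 hF
  obtain ⟨ι, hι, W, j, hW, himm, hcov, hfl⟩ := exists_strat iX F hFP
  have hN : ∀ i, IsLocallyNoetherian (W i) := fun i => by
    have := himm i
    exact LocallyOfFiniteType.isLocallyNoetherian (j i)
  have h1 : ∀ i, ∃ N : ℕ, ∀ n, N ≤ n → ∀ {Y : Scheme.{u}} {g : Y ⟶ X} {iY : Y ⟶ W i} (H : IsPullback g iY iX (j i)),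
      SBC H.w (CohB1.tensorMod F (CohB1.tensorPow L n)) := fun i => by
    have := himm i
    exact (evBC_immersion (j i)).ev iX hL hF
  choose N₁ hN₁ using h1
  have h2 : ∀ i, ∃ N : ℕ, ∀ n, N ≤ n → ∀ p : ℕ, 0 < p → Subsingleton (Coh.HH _ (CohB1.tensorMod
      ((Scheme.Modules.pullback (pullback.fst iX (j i))).obj F)
      (CohB1.tensorPow ((Scheme.Modules.pullback (pullback.fst iX (j i))).obj L) n)) p) := fun i => by
    have : IsAffineHom (j i) := isAffineHom_of_isAffine (j i)
    have : IsAffineHom (pullback.fst iX (j i)) := MorphismProperty.pullback_fst _ _ this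
    exact serre (pullback.snd iX (j i)) (Sga5.AmpleFib.isAmple_pullback (pullback.fst iX (j i)) hL)
      (FormalB.PullCoh.isCoh_pullback (pullback.fst iX (j i)) hF)
  choose N₂ hN₂ using h2
  obtain ⟨B₁, hB₁⟩ := Finite.bddAbove_range N₁
  obtain ⟨B₂, hB₂⟩ := Finite.bddAbove_range N₂
  refine ⟨max B₁ B₂, fun n hn K _ t Y g iY H => ?_⟩
  obtain ⟨i, w, hw⟩ := hcov (t default)
  have := himm i
  obtain ⟨t', ht'⟩ := exists_lift_immersion (j i) t (by
    rintro _ ⟨x, rfl⟩
    rw [Subsingleton.elim x default]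
    exact ⟨w, hw⟩)
  have Hi : IsPullback (pullback.fst iX (j i)) (pullback.snd iX (j i)) iX (j i) := IsPullback.of_hasPullback _ _
  let g' : Y ⟶ pullback iX (j i) := pullback.lift g (iY ≫ t') (by rw [Category.assoc, ht']; exact H.w)
  have hg : g' ≫ pullback.fst iX (j i) = g := pullback.lift_fst _ _ _
  have H' : IsPullback g' iY (pullback.snd iX (j i)) t' := by
    refine IsPullback.of_right ?_ (pullback.lift_snd _ _ _) Hi
    rw [hg, ht']
    exact H
  have hn1 : N₁ i ≤ n := (hB₁ ⟨i, rfl⟩).trans ((le_max_left _ _).trans hn)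
  have hn2 : N₂ i ≤ n := (hB₂ ⟨i, rfl⟩).trans ((le_max_right _ _).trans hn)
  obtain ⟨e⟩ := CohqB.PullTwist471.nonempty_pull_twist (pullback.fst iX (j i)) F hL.1 n
  have hinv : PicF.IsInvertible (CohB1.tensorPow ((Scheme.Modules.pullback (pullback.fst iX (j i))).obj L) n) :=
    Fdesc.LocGen.isInvertible_tensorPow (Fdesc.LocGen.isInvertible_pullback _ hL.1) n
  have hfl' : FlatMod.IsFlatOver (pullback.snd iX (j i)) ((Scheme.Modules.pullback (pullback.fst iX (j i))).obj
      (CohB1.tensorMod F (CohB1.tensorPow L n))) :=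
    Models2.FlatIso.isFlatOver_of_iso _ e.symm (Ega3B.FlatTensInv.isFlatOver_tensor _ hinv (hfl i))
  have hvan : ∀ p, Subsingleton (Coh.HH _ ((Scheme.Modules.pullback (pullback.fst iX (j i))).obj
      (CohB1.tensorMod F (CohB1.tensorPow L n))) (p + 1)) := fun p =>
    Ega3B.AcycNbhd.subsingleton_HH_of_iso e.symm _ (hN₂ i n hn2 _ (Nat.succ_pos p))
  have hcoh : Coh.IsQCoh ((Scheme.Modules.pullback (pullback.fst iX (j i))).obj
      (CohB1.tensorMod F (CohB1.tensorPow L n))) :=
    (FormalB.PullCoh.isCoh_pullback _ (Ega3B.CohTensor.isCoh_tensor hF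
      (Fdesc.LocGen.isInvertible_tensorPow hL.1 n))).1
  obtain ⟨h3, h4, -⟩ := Ega3B.AcyclicBC.acyclicBC H' _ hcoh hfl' hvan
  refine ⟨fun p => ?_, ?_⟩
  · let e' : (Scheme.Modules.pullback g').obj ((Scheme.Modules.pullback (pullback.fst iX (j i))).obj
        (CohB1.tensorMod F (CohB1.tensorPow L n))) ≅ (Scheme.Modules.pullback g).obj
        (CohB1.tensorMod F (CohB1.tensorPow L n)) :=
      (Scheme.Modules.pullbackComp _ _).app _ ≪≫ (Scheme.Modules.pullbackCongr hg).app _
    exact Ega3B.AcycNbhd.subsingleton_HH_of_iso e' _ (h3 p)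
  · rw [(hN₁ i n hn1 Hi).comp_iff H'.w hg ht' H.w, sbc_iff_isBC]
    exact h4

end K425.Uniform
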