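import Groth.Agent.Variety.K425.Chart
import Groth.Agent.Variety.K425.PolModel
import Groth.Agent.Variety.K425.TwistFlat
import Groth.Agent.Variety.K425.Uniform
import Groth.Agent.Models2.FPCoh
import Groth.Agent.Dcoh.PushFLF304
import Groth.Agent.CalgB.AmpleRel

/-!
# Flatness and local freeness of the direct images of large twists
-/

set_option autoImplicit false
universe u
open CategoryTheory CategoryTheory.Limits AlgebraicGeometry TopologicalSpace

namespace K425.FlatPush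

open Groth.Agent K425.SecBC K425.Chart

/-- Over an affine base, the sections of large twists of a flat module are finite projective. -/
theorem finproj_spec (A : Type u) [CommRing A] {X : Scheme.{u}} (f : X ⟶ Spec (CommRingCat.of A)) [IsProper f]
    [LocallyOfFinitePresentation f] {F : X.Modules} (hF : CohB1.IsFP F) {L : X.Modules} (hL : CohB1.IsAmple L)
    (hfl : FlatMod.IsFlatOver f F) :
    ∃ N : ℕ, ∀ n, N ≤ n → letI := mS f (CohB1.tensorMod F (CohB1.tensorPow L n));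
      Module.Finite Γ(Spec (CommRingCat.of A), ⊤) Γ(CohB1.tensorMod F (CohB1.tensorPow L n), ⊤) ∧
      Module.Projective Γ(Spec (CommRingCat.of A), ⊤) Γ(CohB1.tensorMod F (CohB1.tensorPow L n), ⊤) := by
  obtain ⟨A₀, hFG, X₀, f₀, g, F₀, L₀, H, hprop, lofp, hL₀, hF₀, ⟨eF⟩, ⟨eL⟩, hflat⟩ :=
    PolModel.exists_pol_model A f hF hL
  have hfl₀ := hflat hfl
  have : Algebra.FiniteType ℤ A₀ := A₀.fg_iff_finiteType.1 hFG
  have : IsNoetherianRing A₀ := Algebra.FiniteType.isNoetherianRing ℤ A₀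
  have hcoh := Models2.FPCoh.isCoh_of_isFP hF₀
  obtain ⟨N, hN⟩ := QuotBC.serre f₀ hL₀ hcoh
  refine ⟨N, fun n hn => ?_⟩
  have hinv : PicF.IsInvertible (CohB1.tensorPow L₀ n) := Fdesc.LocGen.isInvertible_tensorPow hL₀.1 n
  have hcoh' : Coh.IsCoh (CohB1.tensorMod F₀ (CohB1.tensorPow L₀ n)) := Ega3B.CohTensor.isCoh_tensor hcoh hinv
  have hfl' : FlatMod.IsFlatOver f₀ (CohB1.tensorMod F₀ (CohB1.tensorPow L₀ n)) :=
    Ega3B.FlatTensInv.isFlatOver_tensor _ hinv hfl₀
  obtain ⟨-, h1, h2⟩ := Ega3B.AcyclicBC.acyclicBC H _ hcoh'.1 hfl' (fun p => hN n hn _ (Nat.succ_pos p))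
  have h3 := Ega3B.AcycNbhd.finite_sections f₀ _ hcoh'
  have h4 := Ega3B.AcycNbhd.isNoetherianRing (Spec (CommRingCat.of A₀))
  obtain ⟨e⟩ := nonempty_pull_twist g hL₀.1 eF eL n
  let j0 := mS f₀ (CohB1.tensorMod F₀ (CohB1.tensorPow L₀ n))
  let j1 := mS f (CohB1.tensorMod F (CohB1.tensorPow L n))
  have h5 : Module.Projective Γ(Spec (CommRingCat.of A₀), ⊤) Γ(CohB1.tensorMod F₀ (CohB1.tensorPow L₀ n), ⊤) := by
    have h6 : Module.Flat Γ(Spec (CommRingCat.of A₀), ⊤) Γ(CohB1.tensorMod F₀ (CohB1.tensorPow L₀ n), ⊤) := h2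
    have h7 : Module.Finite Γ(Spec (CommRingCat.of A₀), ⊤) Γ(CohB1.tensorMod F₀ (CohB1.tensorPow L₀ n), ⊤) := h3
    have h8 : Module.FinitePresentation Γ(Spec (CommRingCat.of A₀), ⊤)
      Γ(CohB1.tensorMod F₀ (CohB1.tensorPow L₀ n), ⊤) := Module.finitePresentation_of_finite _ _
    exact Module.Flat.projective_of_finitePresentation
  have h9 : SBC H.w (CohB1.tensorMod F₀ (CohB1.tensorPow L₀ n)) := (sbc_iff_isBC _ _).2 h1
  have h10 := BC.of_iso h9 e
  have h11 : Module.Finite Γ(Spec (CommRingCat.of A₀), ⊤) Γ(CohB1.tensorMod F₀ (CohB1.tensorPow L₀ n), ⊤) := h3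
  exact ⟨bc_finite h10, bc_projective h10⟩

section

variable {X S : Scheme.{u}} (f : X ⟶ S) [IsProper f] {L : X.Modules} (hL : RelAmple.IsRelAmple f L)
  {F : X.Modules} (hF : CohB1.IsFP F)
include hL hF

theorem finproj_affine [LocallyOfFinitePresentation f] {V : S.Opens} (hV : IsAffineOpen V)
    (hfl : FlatMod.IsFlatOver f F) :
    ∃ N : ℕ, ∀ n, N ≤ n →
      letI : Module Γ(S, V) Γ(CohB1.tensorMod F (CohB1.tensorPow L n), f ⁻¹ᵁ V) :=
        Module.compHom _ (f.app V).hom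
      Module.Finite Γ(S, V) Γ(CohB1.tensorMod F (CohB1.tensorPow L n), f ⁻¹ᵁ V) ∧
      Module.Projective Γ(S, V) Γ(CohB1.tensorMod F (CohB1.tensorPow L n), f ⁻¹ᵁ V) := by
  have hLi := CalgB.AmpleRel.isInvertible_of_isRelAmple hL
  have hamp := isAmple_pullback_of_relAmple hL hV.fromSpec
  have H : IsPullback (pullback.fst f hV.fromSpec) (pullback.snd f hV.fromSpec) f hV.fromSpec :=
    IsPullback.of_hasPullback _ _
  obtain ⟨N, hN⟩ := finproj_spec Γ(S, V) (pullback.snd f hV.fromSpec)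
    (FormalA.PullbackQC.isFP_pullback _ _ hF) hamp (Strat.isFlatOver_pullback H _ hfl)
  refine ⟨N, fun n hn => ?_⟩
  obtain ⟨h1, h2⟩ := hN n hn
  have hq : Coh.IsQCoh (CohB1.tensorMod F (CohB1.tensorPow L n)) :=
    (Ega3B.CohTensor.isCoh_tensor (Models2.FPCoh.isCoh_of_isFP hF) (Fdesc.LocGen.isInvertible_tensorPow hLi n)).1
  obtain ⟨φ, θ, hφ, hθ⟩ := chart_bc f hV hq
  obtain ⟨e⟩ := nonempty_pull_twist (pullback.fst f hV.fromSpec) (F := F) hLi (Iso.refl _) (Iso.refl _) n
  let j0 : Module Γ(S, V) Γ(CohB1.tensorMod F (CohB1.tensorPow L n), f ⁻¹ᵁ V) := Module.compHom _ (f.app V).hom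
  let j1 := mS (pullback.snd f hV.fromSpec) ((Scheme.Modules.pullback (pullback.fst f hV.fromSpec)).obj
    (CohB1.tensorMod F (CohB1.tensorPow L n)))
  let j2 := mS (pullback.snd f hV.fromSpec) (CohB1.tensorMod
    ((Scheme.Modules.pullback (pullback.fst f hV.fromSpec)).obj F)
    (CohB1.tensorPow ((Scheme.Modules.pullback (pullback.fst f hV.fromSpec)).obj L) n))
  have h3 : Module.Finite Γ(Spec Γ(S, V), ⊤) Γ((Scheme.Modules.pullback (pullback.fst f hV.fromSpec)).obj
    (CohB1.tensorMod F (CohB1.tensorPow L n)), ⊤) := Module.Finite.equiv (secIso (pullback.snd f hV.fromSpec) e).symm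
  have h4 : Module.Projective Γ(Spec Γ(S, V), ⊤) Γ((Scheme.Modules.pullback (pullback.fst f hV.fromSpec)).obj
    (CohB1.tensorMod F (CohB1.tensorPow L n)), ⊤) :=
    Module.Projective.of_equiv (secIso (pullback.snd f hV.fromSpec) e).symm
  obtain ⟨ψ, θ', hψ⟩ := bc_symm hθ hφ
  exact ⟨bc_finite hψ, bc_projective hψ⟩

/-- If the direct images of the large twists are finite locally free then the module is flat. -/
theorem isFlatOver_of_push (N : ℕ) (h : ∀ n : ℕ, N ≤ n →
    FlatMod.IsFinLocFree ((Coh.push f).obj (CohB1.tensorMod F (CohB1.tensorPow L n)))) :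
    FlatMod.IsFlatOver f F := by
  intro x
  obtain ⟨_, ⟨V, hV, rfl⟩, hxV, _⟩ := S.isBasis_affineOpens.exists_subset_of_mem_open
    (show f x ∈ (⊤ : S.Opens) from trivial) (⊤ : S.Opens).2
  have hV : IsAffineOpen V := hV
  have hLi := CalgB.AmpleRel.isInvertible_of_isRelAmple hL
  have hamp := isAmple_pullback_of_relAmple hL hV.fromSpec
  have H : IsPullback (pullback.fst f hV.fromSpec) (pullback.snd f hV.fromSpec) f hV.fromSpec :=
    IsPullback.of_hasPullback _ _
  have key : FlatMod.IsFlatOver (pullback.snd f hV.fromSpec)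
      ((Scheme.Modules.pullback (pullback.fst f hV.fromSpec)).obj F) := by
    refine TwistFlat.isFlatOver_of_sections _ hamp
      (Models2.FPCoh.isQCoh_of_isFP (FormalA.PullbackQC.isFP_pullback _ _ hF)) N fun n hn => ?_
    have hq : Coh.IsQCoh (CohB1.tensorMod F (CohB1.tensorPow L n)) :=
      (Ega3B.CohTensor.isCoh_tensor (Models2.FPCoh.isCoh_of_isFP hF)
        (Fdesc.LocGen.isInvertible_tensorPow hLi n)).1
    obtain ⟨φ, θ, hφ, hθ⟩ := chart_bc f hV hq
    obtain ⟨e⟩ := nonempty_pull_twist (pullback.fst f hV.fromSpec) (F := F) hLi (Iso.refl _) (Iso.refl _) n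
    let j0 : Module Γ(S, V) Γ(CohB1.tensorMod F (CohB1.tensorPow L n), f ⁻¹ᵁ V) :=
      Module.compHom _ (f.app V).hom
    let j1 := mS (pullback.snd f hV.fromSpec) ((Scheme.Modules.pullback (pullback.fst f hV.fromSpec)).obj
      (CohB1.tensorMod F (CohB1.tensorPow L n)))
    let j2 := mS (pullback.snd f hV.fromSpec) (CohB1.tensorMod
      ((Scheme.Modules.pullback (pullback.fst f hV.fromSpec)).obj F)
      (CohB1.tensorPow ((Scheme.Modules.pullback (pullback.fst f hV.fromSpec)).obj L) n))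
    have h1 : Module.Flat Γ(S, V) Γ(CohB1.tensorMod F (CohB1.tensorPow L n), f ⁻¹ᵁ V) :=
      Ega3B.FlatOfPush.flat_sections_of_push f _ (h n hn) hV
    have h2 := bc_flat hθ
    exact Module.Flat.of_linearEquiv (secIso (pullback.snd f hV.fromSpec) e).symm
  obtain ⟨z, hz⟩ : x ∈ Set.range (pullback.fst f hV.fromSpec) := by
    obtain ⟨y, hy⟩ : f x ∈ Set.range hV.fromSpec := by
      rw [hV.range_fromSpec]
      exact hxV
    obtain ⟨z, hz, -⟩ := Scheme.Pullback.exists_preimage_pullback (f := f) (g := hV.fromSpec) x y hy.symm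
    exact ⟨z, hz⟩
  have := Fdesc.FlatBC.isFlatOverAt_of_pullback H F z (key z)
  rwa [show (pullback.fst f hV.fromSpec).base z = x from hz] at this

end

end K425.FlatPush
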