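import Groth.Agent.Variety.K425.FibEuler
import Groth.Agent.Variety.K425.Strat
import Groth.Agent.PerfB.Semi

/-!
# Finiteness of the set of Snapper polynomials of the fibres over a quasi-compact base
-/

set_option autoImplicit false
universe u

open CategoryTheory CategoryTheory.Limits AlgebraicGeometry

namespace K425.FibFinite

open Groth.Agent K425.FibEuler K425.Strat

variable {X S : Scheme.{u}}

/-- The function `s ↦ (n ↦ χ(X_s, (F ⊗ L^n)|_{X_s}))`. -/
noncomputable def phi (f : X ⟶ S) (F : X.Modules) (r : ℕ) (L : Fin r → X.Modules) (s : S) (n : Fin r → ℕ) : ℤ :=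
  PerfAux.eulerChar f (Curv2.tensorPows F r L n) s

theorem phi_bc {X' S' : Scheme.{u}} {p : X' ⟶ X} {f' : X' ⟶ S'} {f : X ⟶ S} {g : S' ⟶ S} (H : IsPullback p f' f g)
    [QuasiCompact f] [QuasiSeparated f] (F : X.Modules) (hF : CohB1.IsFP F) (r : ℕ) (L : Fin r → X.Modules)
    (hL : ∀ i, PicF.IsInvertible (L i)) (s : S') :
    phi f' ((Scheme.Modules.pullback p).obj F) r (fun i => (Scheme.Modules.pullback p).obj (L i)) s =
      phi f F r L (g s) := by
  funext n
  obtain ⟨e⟩ := nonempty_pull_tensorPows p F r L hL n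
  exact PerfB.Semi.eulerChar_eq' H (isFP_tensorPows hF r L hL n) e s

theorem isLocallyConstant_phi (f : X ⟶ S) [IsProper f] [LocallyOfFinitePresentation f] (F : X.Modules)
    (hF : CohB1.IsFP F) (hfl : FlatMod.IsFlatOver f F) (r : ℕ) (L : Fin r → X.Modules)
    (hL : ∀ i, PicF.IsInvertible (L i)) : IsLocallyConstant (phi f F r L) := by
  rw [IsLocallyConstant.iff_exists_open]
  intro s
  obtain ⟨U, hs, hU⟩ := snapper_locallyConstant f F hF hfl r L hL s
  exact ⟨U, U.2, hs, fun s' hs' => funext fun n => hU s' hs' n⟩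

theorem finite_range (f : X ⟶ S) [IsProper f] [LocallyOfFinitePresentation f] [CompactSpace S] (F : X.Modules)
    (hF : CohB1.IsFP F) (r : ℕ) (L : Fin r → X.Modules) (hL : ∀ i, PicF.IsInvertible (L i)) :
    (Set.range (phi f F r L)).Finite := by
  obtain ⟨ι, hι, W, g, hW, -, hcov, hfl⟩ := exists_strat f F hF
  have h1 : ∀ i, (Set.range (phi f F r L ∘ g i)).Finite := fun i => by
    have := hW i
    have H := IsPullback.of_hasPullback f (g i)
    have hlc := isLocallyConstant_phi (pullback.snd f (g i)) ((Scheme.Modules.pullback (pullback.fst f (g i))).obj F)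
      (FormalA.PullbackQC.isFP_pullback _ _ hF) (hfl i) r (fun j => (Scheme.Modules.pullback (pullback.fst f (g i))).obj (L j))
      (fun j => Fdesc.LocGen.isInvertible_pullback _ (hL j))
    have heq : phi (pullback.snd f (g i)) ((Scheme.Modules.pullback (pullback.fst f (g i))).obj F) r
        (fun j => (Scheme.Modules.pullback (pullback.fst f (g i))).obj (L j)) = phi f F r L ∘ g i :=
      funext fun t => phi_bc H F hF r L hL t
    rw [← heq]
    exact hlc.range_finite
  refine (Set.finite_iUnion h1).subset ?_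
  rintro _ ⟨s, rfl⟩
  obtain ⟨i, t, ht⟩ := hcov s
  exact Set.mem_iUnion.2 ⟨i, t, by simp [ht]⟩

end K425.FibFinite
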