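import Groth.Agent.Variety.K425.QuotBC
import Groth.Agent.Sga5.AmpleFib
import Groth.Agent.CohqB.PullTwist471

/-!
# Base change of the global sections of large twists

`EvBC f`: for every proper `X ⟶ S`, `L` ample and `F` coherent on `X`, the formation of `Γ(X, F ⊗ L^n)` commutes
with the base change `f : T ⟶ S` for all large `n` (`S`, `T` affine and Noetherian).
-/

set_option autoImplicit false
universe u
open CategoryTheory CategoryTheory.Limits AlgebraicGeometry TopologicalSpace

namespace K425.ClosedBC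

open Groth.Agent K425.SecBC K425.QuotBC

/-- The sections of large twists commute with the base change `f`. -/
structure EvBC {S T : Scheme.{u}} (f : T ⟶ S) : Prop where
  ev : ∀ {X : Scheme.{u}} (iX : X ⟶ S) [IsProper iX] {L : X.Modules} (_ : CohB1.IsAmple L) {F : X.Modules}
    (_ : Coh.IsCoh F), ∃ N : ℕ, ∀ n, N ≤ n → ∀ {Y : Scheme.{u}} {g : Y ⟶ X} {iY : Y ⟶ T} (H : IsPullback g iY iX f),
      SBC H.w (CohB1.tensorMod F (CohB1.tensorPow L n))

section

variable {R S T : Scheme.{u}}

theorem EvBC.comp [IsAffine S] [IsAffine T] {f : T ⟶ S} (hf : EvBC f) {f' : R ⟶ T} (hf' : EvBC f') :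
    EvBC (f' ≫ f) := by
  constructor
  intro X iX _ L hL F hF
  have : IsAffineHom f := isAffineHom_of_isAffine f
  have : IsAffineHom (pullback.fst iX f) := MorphismProperty.pullback_fst _ _ this
  obtain ⟨N₀, h₀⟩ := hf.ev iX hL hF
  obtain ⟨N₁, h₁⟩ := hf'.ev (pullback.snd iX f) (Sga5.AmpleFib.isAmple_pullback (pullback.fst iX f) hL)
    (FormalB.PullCoh.isCoh_pullback (pullback.fst iX f) hF)
  refine ⟨max N₀ N₁, fun n hn Y g iY H => ?_⟩
  have H₁ : IsPullback (pullback.fst iX f) (pullback.snd iX f) iX f := IsPullback.of_hasPullback iX f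
  let g₂ : Y ⟶ pullback iX f := pullback.lift g (iY ≫ f') (by rw [Category.assoc]; exact H.w)
  have hg : g₂ ≫ pullback.fst iX f = g := pullback.lift_fst _ _ _
  have H₂ : IsPullback g₂ iY (pullback.snd iX f) f' := by
    refine IsPullback.of_right ?_ (pullback.lift_snd _ _ _) H₁
    rw [hg]
    exact H
  rw [(h₀ n ((le_max_left _ _).trans hn) H₁).comp_iff H₂.w hg rfl H.w]
  obtain ⟨e⟩ := CohqB.PullTwist471.nonempty_pull_twist (pullback.fst iX f) F hL.1 n
  exact sbc_of_iso e.symm (h₁ n ((le_max_right _ _).trans hn) H₂)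

theorem evBC_iso (f : T ⟶ S) [IsIso f] : EvBC f := by
  constructor
  intro X iX _ L hL F hF
  refine ⟨0, fun n _ Y g iY H => ?_⟩
  have : IsIso g := by
    have h1 : IsIso (pullback.fst iX f) := inferInstance
    have h2 : g = H.isoPullback.hom ≫ pullback.fst iX f := by simp
    rw [h2]
    infer_instance
  exact sbc_of_isIso H.w _

theorem evBC_flat [IsAffine S] [IsLocallyNoetherian S] [IsAffine T] (f : T ⟶ S) [Flat f] : EvBC f := by
  constructor
  intro X iX _ L hL F hF
  refine ⟨0, fun n _ Y g iY H => ?_⟩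
  have : CompactSpace X := hL.2.1
  have : QuasiSeparatedSpace X := quasiSeparatedSpace_of_quasiSeparated iX
  rw [sbc_iff_isBC]
  exact VarietyB.FlatH0.isBC_top H _
    (Ega3B.CohTensor.isCoh_tensor hF (Fdesc.LocGen.isInvertible_tensorPow hL.1 n)).1

theorem evBC_principal [IsAffine S] [IsLocallyNoetherian S] [IsAffine T] (f : T ⟶ S)
    (hs : Function.Surjective (rS f)) (a : Γ(S, ⊤)) (ha : RingHom.ker (rS f) = Ideal.span {a}) : EvBC f := by
  constructor
  intro X iX _ L hL F hF
  exact sbc_principal (iX := iX) f hs a ha hL hF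

end

section Spec

/-- `Spec` of a ring homomorphism. -/
noncomputable abbrev sp {A B : Type u} [CommRing A] [CommRing B] (φ : A →+* B) :
    Spec (CommRingCat.of B) ⟶ Spec (CommRingCat.of A) := Spec.map (CommRingCat.ofHom φ)

/-- The identification of `A` with the functions on `Spec A`. -/
noncomputable def gi (A : Type u) [CommRing A] : A ≃+* Γ(Spec (CommRingCat.of A), ⊤) :=
  (Scheme.ΓSpecIso (CommRingCat.of A)).symm.commRingCatIsoToRingEquiv

theorem rS_sp {A B : Type u} [CommRing A] [CommRing B] (φ : A →+* B) (a : A) :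
    rS (sp φ) (gi A a) = gi B (φ a) := by
  rw [rS_apply]
  have := Scheme.ΓSpecIso_inv_naturality (CommRingCat.ofHom φ)
  exact (congr($this a)).symm

theorem rS_sp_surjective {A B : Type u} [CommRing A] [CommRing B] (φ : A →+* B) (h : Function.Surjective φ) :
    Function.Surjective (rS (sp φ)) := by
  intro y
  obtain ⟨b, rfl⟩ := (gi B).surjective y
  obtain ⟨a, rfl⟩ := h b
  exact ⟨gi A a, rS_sp φ a⟩

theorem ker_rS_sp {A B : Type u} [CommRing A] [CommRing B] (φ : A →+* B) (a : A)
    (h : RingHom.ker φ = Ideal.span {a}) : RingHom.ker (rS (sp φ)) = Ideal.span {gi A a} := by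
  ext y
  obtain ⟨x, rfl⟩ := (gi A).surjective y
  rw [RingHom.mem_ker, rS_sp, map_eq_zero_iff _ (gi B).injective, ← RingHom.mem_ker, h,
    Ideal.mem_span_singleton, Ideal.mem_span_singleton]
  constructor
  · rintro ⟨c, rfl⟩
    exact ⟨gi A c, map_mul _ _ _⟩
  · rintro ⟨c, hc⟩
    obtain ⟨c, rfl⟩ := (gi A).surjective c
    refine ⟨c, (gi A).injective ?_⟩
    rw [hc, map_mul]

theorem evBC_sp_surjective (m : ℕ) : ∀ {A B : Type u} [CommRing A] [CommRing B] [IsNoetherianRing A] (φ : A →+* B)
    (_ : Function.Surjective φ) (v : Fin m → A) (_ : RingHom.ker φ = Ideal.span (Set.range v)), EvBC (sp φ) := by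
  induction m with
  | zero =>
    intro A B _ _ _ φ hφ v hv
    have hinj : Function.Injective φ := by
      rw [RingHom.injective_iff_ker_eq_bot, hv, Set.range_eq_empty, Ideal.span_empty]
    have : IsIso (CommRingCat.ofHom φ) := (ConcreteCategory.isIso_iff_bijective _).2 ⟨hinj, hφ⟩
    have : IsIso (sp φ) := inferInstance
    exact evBC_iso _
  | succ m ih =>
    intro A B _ _ _ φ hφ v hv
    let A₁ := A ⧸ Ideal.span {v 0}
    let π : A →+* A₁ := Ideal.Quotient.mk _
    have h0 : ∀ x ∈ Ideal.span {v 0}, φ x = 0 := by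
      intro x hx
      have : Ideal.span {v 0} ≤ RingHom.ker φ := by
        rw [hv]
        exact Ideal.span_mono (by rintro _ rfl; exact ⟨0, rfl⟩)
      exact this hx
    let φ₁ : A₁ →+* B := Ideal.Quotient.lift _ φ h0
    have hφ₁ : Function.Surjective φ₁ := Ideal.Quotient.lift_surjective_of_surjective _ h0 hφ
    have hker : RingHom.ker φ₁ = Ideal.span (Set.range fun i : Fin m => π (v i.succ)) := by
      ext y
      obtain ⟨x, rfl⟩ := Ideal.Quotient.mk_surjective y
      rw [RingHom.mem_ker]
      change φ x = 0 ↔ _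
      rw [← RingHom.mem_ker, hv]
      have h1 : Ideal.span (Set.range v) = Ideal.span {v 0} ⊔ Ideal.span (Set.range fun i : Fin m => v i.succ) := by
        rw [← Ideal.span_union]
        congr 1
        ext y
        constructor
        · rintro ⟨i, rfl⟩
          refine Fin.cases (Or.inl rfl) (fun i => Or.inr ⟨i, rfl⟩) i
        · rintro (rfl | ⟨i, rfl⟩)
          · exact ⟨0, rfl⟩
          · exact ⟨i.succ, rfl⟩
      have h2 : Ideal.span (Set.range fun i : Fin m => π (v i.succ)) =
          (Ideal.span (Set.range fun i : Fin m => v i.succ)).map π := by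
        rw [Ideal.map_span, ← Set.range_comp]
        rfl
      rw [h1, h2]
      change _ ↔ π x ∈ _
      rw [← Ideal.mem_comap, Ideal.comap_map_of_surjective π Ideal.Quotient.mk_surjective]
      have h3 : Ideal.comap π ⊥ = Ideal.span {v 0} := Ideal.mk_ker
      rw [h3, sup_comm]
    have key : sp φ = sp φ₁ ≫ sp π := by
      rw [← Spec.map_comp]
      congr 1
    rw [key]
    have i1 : IsNoetherianRing A₁ := inferInstance
    have i2 : IsLocallyNoetherian (Spec (CommRingCat.of A)) := inferInstance
    refine EvBC.comp (evBC_principal _ (rS_sp_surjective π Ideal.Quotient.mk_surjective) (gi A (v 0))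
      (ker_rS_sp π (v 0) Ideal.mk_ker)) (ih φ₁ hφ₁ _ hker)

theorem evBC_sp {A B : Type u} [CommRing A] [CommRing B] [IsNoetherianRing A] (φ : A →+* B)
    (hφ : Function.Surjective φ) : EvBC (sp φ) := by
  obtain ⟨m, v, hv⟩ := Submodule.fg_iff_exists_fin_generating_family.1 (IsNoetherian.noetherian (RingHom.ker φ))
  exact evBC_sp_surjective m φ hφ v hv.symm

/-- Sections of large twists commute with base change along closed immersions of affine Noetherian schemes. -/
theorem evBC_closedImmersion {S T : Scheme.{u}} [IsAffine S] [IsLocallyNoetherian S] (f : T ⟶ S)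
    [IsClosedImmersion f] : EvBC f := by
  have : IsAffine T := isAffine_of_isAffineHom f
  have := Ega3B.AcycNbhd.isNoetherianRing S
  have h1 : Function.Surjective f.appTop := (IsClosedImmersion.isAffine_surjective_of_isAffine f).2
  have key : f = T.isoSpec.hom ≫ sp f.appTop.hom ≫ S.isoSpec.inv := by
    have h := Scheme.isoSpec_hom_naturality_assoc f S.isoSpec.inv
    rw [Iso.hom_inv_id, Category.comp_id] at h
    exact h.symm
  rw [key]
  have h2 : EvBC (sp f.appTop.hom) := evBC_sp _ h1
  have h3 : EvBC (sp f.appTop.hom ≫ S.isoSpec.inv) := EvBC.comp (evBC_iso S.isoSpec.inv) h2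
  exact EvBC.comp h3 (evBC_iso T.isoSpec.hom)

end Spec

end K425.ClosedBC
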