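import Groth.Agent.Variety.K425.NakFree
import Groth.Agent.Variety.K425.ChartModel

/-!
# Freeness of the base change of the sections of large twists at the points of the flat locus
-/

set_option autoImplicit false
universe u
open CategoryTheory CategoryTheory.Limits AlgebraicGeometry TopologicalSpace TensorProduct

namespace K425.FlatFree

open Groth.Agent K425.SecBC K425.NakFree K425.Chart Groth.Agent.VarietyB.PullSec
open Groth.Agent.Ega3B.AcycNbhd (factor exists_fun isField_spec subsingleton_HH_of_iso finite_sections compIso)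

theorem sbc_comp {X Y Z S R : Scheme.{u}} {g : Y ⟶ X} {iX : X ⟶ S} {M : X.Modules} {g' : Z ⟶ Y} {iZ : Z ⟶ R}
    {g'' : Z ⟶ X} {f'' : R ⟶ S} (hg : g' ≫ g = g'') (w'' : g'' ≫ iX = iZ ≫ f'') (h : SBC w'' M) :
    BC iX M iZ ((Scheme.Modules.pullback g').obj ((Scheme.Modules.pullback g).obj M)) f''
      ((sec g' ((Scheme.Modules.pullback g).obj M) (U := ⊤) (V := ⊤) le_top).comp
          (sec g M (U := ⊤) (V := ⊤) le_top)) := by
  subst hg
  have key : sec (g' ≫ g) M (U := ⊤) (V := ⊤) le_top =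
      (secMap ((Scheme.Modules.pullbackComp g' g).hom.app M)).comp
        ((sec g' ((Scheme.Modules.pullback g).obj M) (U := ⊤) (V := ⊤) le_top).comp
          (sec g M (U := ⊤) (V := ⊤) le_top)) := by
    ext s
    exact (Fga.SecComp.sec_comp g' g M (U := ⊤) (V := ⊤) (W := ⊤) le_top le_top le_top s).symm
  let e : (Scheme.Modules.pullback g').obj ((Scheme.Modules.pullback g).obj M) ≅
      (Scheme.Modules.pullback (g' ≫ g)).obj M := (Scheme.Modules.pullbackComp g' g).app M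
  have h3 := BC.of_iso h e.symm
  have h4 : (secMap e.symm.hom).comp (sec (g' ≫ g) M (U := ⊤) (V := ⊤) le_top) =
        (sec g' ((Scheme.Modules.pullback g).obj M) (U := ⊤) (V := ⊤) le_top).comp
          (sec g M (U := ⊤) (V := ⊤) le_top) := by
      rw [key]
      ext s
      exact secMap_inv_hom e _
  rwa [h4] at h3

variable {X S : Scheme.{u}} [IsAffine S] [IsLocallyNoetherian S] (f : X ⟶ S) [IsProper f]

theorem free_of_flat {L : X.Modules} (hL : CohB1.IsAmple L) {F : X.Modules} (hF : Coh.IsCoh F) (n : ℕ)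
    (hu : ∀ (K : Type u) [Field K] (t : Spec (CommRingCat.of K) ⟶ S) {Y : Scheme.{u}} {g : Y ⟶ X}
      {iY : Y ⟶ Spec (CommRingCat.of K)} (H : IsPullback g iY f t),
      (∀ p, Subsingleton (Coh.HH Y ((Scheme.Modules.pullback g).obj
        (CohB1.tensorMod F (CohB1.tensorPow L n))) (p + 1))) ∧
      SBC H.w (CohB1.tensorMod F (CohB1.tensorPow L n)))
    {B : Type u} [CommRing B] (t : Spec (CommRingCat.of B) ⟶ S)
    (hfl : FlatMod.IsFlatOver (pullback.snd f t) ((Scheme.Modules.pullback (pullback.fst f t)).obj F))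
    (y : Ideal B) [y.IsPrime] :
    letI := ((algebraMap B (Localization.AtPrime y)).comp (evr t)).toAlgebra
    letI := mS f (CohB1.tensorMod F (CohB1.tensorPow L n))
    Module.Free (Localization.AtPrime y)
      (Localization.AtPrime y ⊗[Γ(S, ⊤)] Γ(CohB1.tensorMod F (CohB1.tensorPow L n), ⊤)) := by
  have lofpf : LocallyOfFinitePresentation f := Uniform.lofp_of_noetherian f
  have : IsLocallyNoetherian X := LocallyOfFiniteType.isLocallyNoetherian f
  have hFP : CohB1.IsFP F := (S0018.result X F).1 hF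
  have ht : IsAffineHom t := isAffineHom_of_isAffine t
  have ht' : IsAffineHom (pullback.fst f t) := MorphismProperty.pullback_fst _ _ ht
  have hLT := Sga5.AmpleFib.isAmple_pullback (pullback.fst f t) hL
  have hT : IsPullback (pullback.fst f t) (pullback.snd f t) f t := IsPullback.of_hasPullback f t
  obtain ⟨B₀, hFG, X₀, f₀, g, F₀, L₀, H, hprop, lofp, hL₀, hF₀, ⟨eF⟩, ⟨eL⟩, hflat⟩ :=
    PolModel.exists_pol_model B (pullback.snd f t) (FormalA.PullbackQC.isFP_pullback (pullback.fst f t) _ hFP) hLT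
  have hfl₀ := hflat hfl
  have : Algebra.FiniteType ℤ B₀ := B₀.fg_iff_finiteType.1 hFG
  have : IsNoetherianRing B₀ := Algebra.FiniteType.isNoetherianRing ℤ B₀
  let E := CohB1.tensorMod F (CohB1.tensorPow L n)
  let G₀ := CohB1.tensorMod F₀ (CohB1.tensorPow L₀ n)
  have hinv : PicF.IsInvertible (CohB1.tensorPow L₀ n) := Fdesc.LocGen.isInvertible_tensorPow hL₀.1 n
  have hG₀ : Coh.IsCoh G₀ := Ega3B.CohTensor.isCoh_tensor (Models2.FPCoh.isCoh_of_isFP hF₀) hinv
  have hflG₀ : FlatMod.IsFlatOver f₀ G₀ := Ega3B.FlatTensInv.isFlatOver_tensor _ hinv hfl₀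
  have hE : Coh.IsCoh E := Ega3B.CohTensor.isCoh_tensor hF (Fdesc.LocGen.isInvertible_tensorPow hL.1 n)
  obtain ⟨eG₁⟩ := nonempty_pull_twist g hL₀.1 eF eL n
  obtain ⟨eG₂⟩ := nonempty_pull_twist (pullback.fst f t) (F := F) hL.1 (Iso.refl _) (Iso.refl _) n
  let eG : (Scheme.Modules.pullback g).obj G₀ ≅ (Scheme.Modules.pullback (pullback.fst f t)).obj E := eG₁ ≪≫ eG₂.symm
  -- rings
  let O := Localization.AtPrime y
  let p₀ : Ideal B₀ := y.comap B₀.val.toRingHom
  have hp₀ : p₀.IsPrime := Ideal.IsPrime.comap _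
  let O₀ := Localization.AtPrime p₀
  let ψ : O₀ →+* O := Localization.localRingHom p₀ y B₀.val.toRingHom rfl
  have hψ : IsLocalHom ψ := Localization.isLocalHom_localRingHom _ _ _ _
  let κ := IsLocalRing.ResidueField O
  let r : O →+* κ := IsLocalRing.residue O
  have : IsNoetherianRing O₀ := IsLocalization.isNoetherianRing p₀.primeCompl O₀ inferInstance
  let o : Spec (CommRingCat.of O) ⟶ Spec (CommRingCat.of B) := Spec.map (CommRingCat.ofHom (algebraMap B O))
  let o₀ : Spec (CommRingCat.of O₀) ⟶ Spec (CommRingCat.of B₀) := Spec.map (CommRingCat.ofHom (algebraMap B₀ O₀))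
  let ψ' : Spec (CommRingCat.of O) ⟶ Spec (CommRingCat.of O₀) := Spec.map (CommRingCat.ofHom ψ)
  let k : Spec (CommRingCat.of κ) ⟶ Spec (CommRingCat.of O) := Spec.map (CommRingCat.ofHom r)
  have hsq : ψ' ≫ o₀ = o ≫ Spec.map (CommRingCat.ofHom B₀.val.toRingHom) := by
    rw [← Spec.map_comp, ← Spec.map_comp, ← CommRingCat.ofHom_comp, ← CommRingCat.ofHom_comp]
    congr 2
    ext b
    exact Localization.localRingHom_to_map _ _ _ rfl b
  -- squares
  let a₁ := pullback.fst (pullback.snd f t) o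
  let b₁ := pullback.snd (pullback.snd f t) o
  have H₁ : IsPullback a₁ b₁ (pullback.snd f t) o := IsPullback.of_hasPullback _ _
  let a' := pullback.fst f₀ o₀
  let b' := pullback.snd f₀ o₀
  have H' : IsPullback a' b' f₀ o₀ := IsPullback.of_hasPullback f₀ o₀
  obtain ⟨h, hh, HO⟩ := factor (H₁.paste_horiz H) H' ψ' hsq
  let a₂ := pullback.fst b₁ k
  let b₂ := pullback.snd b₁ k
  have Hk : IsPullback a₂ b₂ b₁ k := IsPullback.of_hasPullback b₁ k
  have Hz : IsPullback (a₂ ≫ h ≫ a') b₂ f₀ (k ≫ ψ' ≫ o₀) := Hk.paste_horiz (HO.paste_horiz H')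
  have HS : IsPullback (a₂ ≫ a₁ ≫ pullback.fst f t) b₂ f (k ≫ o ≫ t) := Hk.paste_horiz (H₁.paste_horiz hT)
  obtain ⟨hvanκ, hsbcκ⟩ := hu κ (k ≫ o ≫ t) HS
  let eκ : (Scheme.Modules.pullback (a₂ ≫ a₁ ≫ pullback.fst f t)).obj E ≅
      (Scheme.Modules.pullback (a₂ ≫ h ≫ a')).obj G₀ :=
    (compIso (a₂ ≫ a₁) (pullback.fst f t) _ (Category.assoc _ _ _) E).symm ≪≫
      (Scheme.Modules.pullback (a₂ ≫ a₁)).mapIso eG.symm ≪≫
      compIso (a₂ ≫ a₁) g _ (by rw [hh, Category.assoc]) G₀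
  obtain ⟨a, ha, hvan⟩ := exists_fun Hz (isField_spec κ) G₀ hG₀ hflG₀
    (fun p => subsingleton_HH_of_iso eκ _ (hvanκ p))
  have hua : IsUnit (o₀.appTop a) := by
    have h1 : ∀ {C : Type u} [CommRing C] {T : Scheme.{u}} (t : Spec (CommRingCat.of C) ⟶ T) (a : Γ(T, ⊤)),
        evr t a = (Scheme.ΓSpecIso (CommRingCat.of C)).commRingCatIsoToRingEquiv (t.appTop a) := fun t a => by
      rw [← rS_apply]
      rfl
    have h2 : evr (k ≫ ψ' ≫ o₀) a = r (ψ (evr o₀ a)) := by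
      rw [evr_comp, evr_comp]
      rfl
    have h3 : evr (k ≫ ψ' ≫ o₀) a ≠ 0 := by
      rw [h1, Ne, EmbeddingLike.map_eq_zero_iff]
      exact ha
    rw [h2] at h3
    have h4 : IsUnit (evr o₀ a) := isUnit_of_map_unit ψ _ (isUnit_of_map_unit r _ (isUnit_iff_ne_zero.2 h3))
    rw [h1] at h4
    exact (MulEquiv.isUnit_map _).1 h4
  have hflat₀ : o₀.appTop.hom.Flat := by
    refine HasRingHomProperty.appTop (P := @Flat) o₀ ?_
    rw [HasRingHomProperty.Spec_iff (P := @Flat)]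
    exact RingHom.flat_algebraMap_iff.2 inferInstance
  have hvan' := hvan o₀ a' b' H' hflat₀ hua
  let G' := (Scheme.Modules.pullback a').obj G₀
  have hG' : Coh.IsCoh G' := FormalB.PullCoh.isCoh_pullback a' hG₀
  have hflG' : FlatMod.IsFlatOver b' G' := Strat.isFlatOver_pullback H' G₀ hflG₀
  have hpb' : IsProper b' := MorphismProperty.pullback_snd _ _ hprop
  obtain ⟨-, hO, hflatG'⟩ := Ega3B.AcyclicBC.acyclicBC HO G' hG'.1 hflG' hvan'
  obtain ⟨-, hκ, -⟩ := Ega3B.AcyclicBC.acyclicBC (Hk.paste_horiz HO) G' hG'.1 hflG' hvan'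
  have hfinG' := finite_sections b' G' hG'
  have hO' : SBC HO.w G' := (sbc_iff_isBC _ _).2 hO
  have hκ' : SBC (Hk.paste_horiz HO).w G' := (sbc_iff_isBC _ _).2 hκ
  have hOκ : SBC Hk.w ((Scheme.Modules.pullback h).obj G') := (hO'.comp_iff Hk.w rfl rfl _).1 hκ'
  let e₁ : (Scheme.Modules.pullback h).obj G' ≅ (Scheme.Modules.pullback (a₁ ≫ pullback.fst f t)).obj E :=
    compIso h a' _ hh G₀ ≪≫ (compIso a₁ g _ rfl G₀).symm ≪≫ (Scheme.Modules.pullback a₁).mapIso eG ≪≫
      compIso a₁ (pullback.fst f t) _ rfl E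
  let MO := (Scheme.Modules.pullback (a₁ ≫ pullback.fst f t)).obj E
  have hMOκ : SBC Hk.w MO := sbc_of_iso e₁ hOκ
  have hMO := BC.of_iso hO' e₁
  let i1 := mS b' G'
  let i2 := mS b₁ MO
  have hfinMO : Module.Finite Γ(Spec (CommRingCat.of O), ⊤) Γ(MO, ⊤) := by
    have : Module.Finite Γ(Spec (CommRingCat.of O₀), ⊤) Γ(G', ⊤) := hfinG'
    exact bc_finite hMO
  have hflatMO : Module.Flat Γ(Spec (CommRingCat.of O), ⊤) Γ(MO, ⊤) := by
    have : Module.Flat Γ(Spec (CommRingCat.of O₀), ⊤) Γ(G', ⊤) := hflatG'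
    exact bc_flat hMO
  let i3 := mB b₁ MO
  have hfin : Module.Finite O Γ(MO, ⊤) := bc_finite (isBC_id b₁ MO)
  have hflat : Module.Flat O Γ(MO, ⊤) := bc_flat (isBC_id b₁ MO)
  let i4 := mS f E
  let i5 := mB b₂ ((Scheme.Modules.pullback a₂).obj MO)
  let i6 := mS b₂ ((Scheme.Modules.pullback a₂).obj MO)
  let i7 : Algebra Γ(S, ⊤) O := ((algebraMap B O).comp (evr t)).toAlgebra
  have hfinE : Module.Finite Γ(S, ⊤) Γ(E, ⊤) := finite_sections f E hE
  have hev : evr (o ≫ t) = algebraMap Γ(S, ⊤) O := evr_comp (algebraMap B O) t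
  have hev' : evr (k ≫ o ≫ t) = r.comp (algebraMap Γ(S, ⊤) O) := by rw [evr_comp, hev]
  have hwO : (a₁ ≫ pullback.fst f t) ≫ f = b₁ ≫ o ≫ t := (H₁.paste_horiz hT).w
  have h₁ := CohqA.BaseChangeMod.IsBC.comp (sbc_comp (g := a₁ ≫ pullback.fst f t) (g' := a₂) rfl HS.w hsbcκ)
    (isBC_id b₂ ((Scheme.Modules.pullback a₂).obj MO))
  refine free_of_bc (A := Γ(S, ⊤)) (O := O) (K := κ) (E := Γ(E, ⊤)) (M := Γ(MO, ⊤))
    (V := Γ((Scheme.Modules.pullback a₂).obj MO, ⊤)) r IsLocalRing.residue_surjective (IsLocalRing.ker_residue (R := O)).le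
    (sec (a₁ ≫ pullback.fst f t) E (U := ⊤) (V := ⊤) le_top) (sec a₂ MO (U := ⊤) (V := ⊤) le_top) ?_
    (isBC_map Hk.w hMOκ) ?_
  · intro a x
    refine (sec_smulS hwO E a x).trans ?_
    rw [← hev]
    exact congrArg (· • sec (a₁ ≫ pullback.fst f t) E (U := ⊤) (V := ⊤) le_top x)
      ((Scheme.ΓSpecIso (CommRingCat.of O)).commRingCatIsoToRingEquiv.symm_apply_apply (rS (o ≫ t) a)).symm
  · rw [← hev']
    exact h₁

end K425.FlatFree
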