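import Groth.Agent.Variety.K425.FlatFree
import Groth.Agent.Variety.K425.RankAlg
import Groth.Agent.Variety.K425.TwistFlat

/-!
# The ideal of the stratum of a maximal Hilbert polynomial
-/

set_option autoImplicit false
universe u
open CategoryTheory CategoryTheory.Limits AlgebraicGeometry TopologicalSpace TensorProduct

namespace K425.FlatIdeal

open Groth.Agent K425.SecBC K425.NakFree K425.Chart K425.HilbFn K425.FibRank K425.RankAlg Groth.Agent.Fga.GrRank

section Aff

variable {S : Scheme.{u}} [IsAffine S] {B : Type u} [CommRing B]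

/-- Morphisms to an affine scheme. -/
theorem eq_map_evr (t : Spec (CommRingCat.of B) ⟶ S) :
    t = Spec.map (CommRingCat.ofHom (evr t)) ≫ S.isoSpec.inv := by
  rw [Iso.eq_comp_inv, Scheme.isoSpec_hom, Scheme.toSpecΓ_naturality, ← SpecMap_ΓSpecIso_hom, ← Spec.map_comp]
  congr 1

theorem evr_map (φ : Γ(S, ⊤) →+* B) : evr (Spec.map (CommRingCat.ofHom φ) ≫ S.isoSpec.inv) = φ := by
  have h := eq_map_evr (Spec.map (CommRingCat.ofHom φ) ≫ S.isoSpec.inv)
  rw [cancel_mono] at h
  exact (congrArg CommRingCat.Hom.hom (Spec.map_injective h)).symm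

/-- The closed subscheme defined by an ideal. -/
noncomputable def zz (J : Ideal Γ(S, ⊤)) : Spec (CommRingCat.of (Γ(S, ⊤) ⧸ J)) ⟶ S :=
  Spec.map (CommRingCat.ofHom (Ideal.Quotient.mk J)) ≫ S.isoSpec.inv

instance (J : Ideal Γ(S, ⊤)) : IsClosedImmersion (zz J) := by
  have : IsClosedImmersion (Spec.map (CommRingCat.ofHom (Ideal.Quotient.mk J))) :=
    IsClosedImmersion.spec_of_surjective _ Ideal.Quotient.mk_surjective
  unfold zz
  infer_instance

theorem evr_zz (J : Ideal Γ(S, ⊤)) : evr (zz J) = Ideal.Quotient.mk J := evr_map _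

theorem exists_factor (J : Ideal Γ(S, ⊤)) (t : Spec (CommRingCat.of B) ⟶ S) (h : ∀ a ∈ J, evr t a = 0) :
    ∃ t' : Spec (CommRingCat.of B) ⟶ Spec (CommRingCat.of (Γ(S, ⊤) ⧸ J)), t' ≫ zz J = t := by
  refine ⟨Spec.map (CommRingCat.ofHom (Ideal.Quotient.lift J (evr t) h)), ?_⟩
  rw [zz, ← Category.assoc, ← Spec.map_comp, ← CommRingCat.ofHom_comp]
  conv_rhs => rw [eq_map_evr t]
  congr 3

end Aff

section Alg

variable {A B E : Type u} [CommRing A] [CommRing B] [Algebra A B] [AddCommGroup E] [Module A E] [Module.Finite A E]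

theorem flat_of_rankIdeal [IsNoetherianRing B] {c : ℕ} (hJ : ∀ a ∈ rankIdeal A E c, algebraMap A B a = 0)
    (hc : ∀ (K : Type u) [Field K] [Algebra A K], Module.finrank K (K ⊗[A] E) ≤ c) :
    Module.Flat B (B ⊗[A] E) := by
  have : Module.FinitePresentation B (B ⊗[A] E) := Module.finitePresentation_of_finite _ _
  have : Module.Projective B (B ⊗[A] E) := by
    rw [← Module.freeLocus_eq_univ_iff, Set.eq_univ_iff_forall]
    intro p
    rw [Module.mem_freeLocus_iff_tensor p (Localization.AtPrime p.asIdeal)]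
    obtain ⟨e⟩ := free_of_rankIdeal (B := Localization.AtPrime p.asIdeal) (A := A) (M := E) (c := c)
      (hc _) (fun a ha => by
        rw [IsScalarTower.algebraMap_apply A B (Localization.AtPrime p.asIdeal), hJ a ha, map_zero])
    have e' := AlgebraTensorModule.cancelBaseChange A B (Localization.AtPrime p.asIdeal)
      (Localization.AtPrime p.asIdeal) E
    exact Module.Free.of_equiv (e.trans e'.symm)
  infer_instance

end Alg

section Geo

variable {X S : Scheme.{u}} [IsAffine S] (f : X ⟶ S)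

theorem finrank_le_of_points (M : X.Modules) {c : ℕ}
    (h : ∀ s : S, rk f M (K := S.residueField s) (S.fromSpecResidueField s) ≤ c) (K : Type u) [Field K]
    [Algebra Γ(S, ⊤) K] : letI := mS f M; Module.finrank K (K ⊗[Γ(S, ⊤)] Γ(M, ⊤)) ≤ c := by
  let i0 := mS f M
  have hp : (RingHom.ker (algebraMap Γ(S, ⊤) K)).IsPrime := RingHom.ker_isPrime _
  obtain ⟨s, hs⟩ := surjective_toSpecΓ (S := S) ⟨RingHom.ker (algebraMap Γ(S, ⊤) K), hp⟩
  have h1 := rk_point f M s
  rw [hs] at h1
  refine (Ega4late.H544.FieldRank.finrank_eq_residueField Γ(M, ⊤) _ K rfl).le.trans ?_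
  exact h1.symm.le.trans (h s)

end Geo

section Main

variable {X S : Scheme.{u}} [IsAffine S] [IsLocallyNoetherian S] (f : X ⟶ S) [IsProper f] {L : X.Modules}
  (hL : CohB1.IsAmple L) {F : X.Modules} (hF : Coh.IsCoh F)

/-- Uniform vanishing and base change at a twist. -/
def UnifAt (f : X ⟶ S) (L F : X.Modules) (n : ℕ) : Prop :=
  ∀ (K : Type u) [Field K] (t : Spec (CommRingCat.of K) ⟶ S) {Y : Scheme.{u}} {g : Y ⟶ X}
      {iY : Y ⟶ Spec (CommRingCat.of K)} (H : IsPullback g iY f t),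
      (∀ p, Subsingleton (Coh.HH Y ((Scheme.Modules.pullback g).obj
        (CohB1.tensorMod F (CohB1.tensorPow L n))) (p + 1))) ∧
      SBC H.w (CohB1.tensorMod F (CohB1.tensorPow L n))

include hL hF in
/-- The rank ideal vanishes along flat base changes with constant Hilbert function. -/
theorem rankIdeal_of_flat (n : ℕ) (hu : UnifAt f L F n) {c : ℕ} {B : Type u} [CommRing B]
    (t : Spec (CommRingCat.of B) ⟶ S) (hfl : Strat.FlatAlong f F t)
    (hc : ∀ y : Spec (CommRingCat.of B), rk f (CohB1.tensorMod F (CohB1.tensorPow L n))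
      (K := S.residueField (t y)) (S.fromSpecResidueField (t y)) = c) :
    letI := mS f (CohB1.tensorMod F (CohB1.tensorPow L n))
    ∀ a ∈ rankIdeal Γ(S, ⊤) Γ(CohB1.tensorMod F (CohB1.tensorPow L n), ⊤) c, evr t a = 0 := by
  let i0 := mS f (CohB1.tensorMod F (CohB1.tensorPow L n))
  intro a ha
  have hE : Coh.IsCoh (CohB1.tensorMod F (CohB1.tensorPow L n)) :=
    Ega3B.CohTensor.isCoh_tensor hF (Fdesc.LocGen.isInvertible_tensorPow hL.1 n)
  have hfinE : Module.Finite Γ(S, ⊤) Γ(CohB1.tensorMod F (CohB1.tensorPow L n), ⊤) :=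
    Ega3B.AcycNbhd.finite_sections f _ hE
  refine eq_zero_of_localization _ fun y hy => ?_
  have hy' : y.IsPrime := hy.isPrime
  let O := Localization.AtPrime y
  let κ := IsLocalRing.ResidueField O
  let r : O →+* κ := IsLocalRing.residue O
  let i1 : Algebra Γ(S, ⊤) O := ((algebraMap B O).comp (evr t)).toAlgebra
  have h1 : Module.Free O (O ⊗[Γ(S, ⊤)] Γ(CohB1.tensorMod F (CohB1.tensorPow L n), ⊤)) :=
    FlatFree.free_of_flat f hL hF n hu t hfl y
  let tκ : Spec (CommRingCat.of κ) ⟶ S := Spec.map (CommRingCat.ofHom r) ≫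
    Spec.map (CommRingCat.ofHom (algebraMap B O)) ≫ t
  have h2 : ∀ a, algebraMap Γ(S, ⊤) κ a = evt tκ a := fun a => by
    have : evr tκ a = r (algebraMap B O (evr t a)) := by
      rw [evr_comp, evr_comp]
      rfl
    exact this.symm
  have h3 : Module.finrank κ (κ ⊗[Γ(S, ⊤)] Γ(CohB1.tensorMod F (CohB1.tensorPow L n), ⊤)) = c := by
    have hp : (RingHom.ker (evt tκ)).IsPrime := RingHom.ker_isPrime _
    have h4 := rk_eq f (CohB1.tensorMod F (CohB1.tensorPow L n)) tκ ⟨_, hp⟩ rfl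
    have h5 := Ega4late.H544.FieldRank.finrank_eq_residueField (A := Γ(S, ⊤))
      Γ(CohB1.tensorMod F (CohB1.tensorPow L n), ⊤) (RingHom.ker (evt tκ)) κ (Ideal.ext fun a => by
        rw [RingHom.mem_ker, RingHom.mem_ker, h2])
    rw [h5]
    refine h4.symm.trans ?_
    rw [rk_eq_point f _ tκ default]
    exact hc _
  exact rankIdeal_of_free (B := O) h1 h3 a ha

include hL hF in
/-- Flatness along the closed subscheme defined by the rank ideals. -/
theorem flatAlong_zz (J : Ideal Γ(S, ⊤)) (N : ℕ) (c : ℕ → ℕ)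
    (hJ : ∀ n, N ≤ n → letI := mS f (CohB1.tensorMod F (CohB1.tensorPow L n));
      rankIdeal Γ(S, ⊤) Γ(CohB1.tensorMod F (CohB1.tensorPow L n), ⊤) (c n) ≤ J)
    (hle : ∀ n, N ≤ n → ∀ s : S, rk f (CohB1.tensorMod F (CohB1.tensorPow L n))
      (K := S.residueField s) (S.fromSpecResidueField s) ≤ c n) : Strat.FlatAlong f F (zz J) := by
  have := Ega3B.AcycNbhd.isNoetherianRing S
  have hN1 : IsNoetherianRing (Γ(S, ⊤) ⧸ J) := inferInstance
  obtain ⟨N', hN'⟩ := (ClosedBC.evBC_closedImmersion (zz J)).ev f hL hF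
  have haff : IsAffineHom (zz J) := isAffineHom_of_isAffine _
  have haff' : IsAffineHom (pullback.fst f (zz J)) := MorphismProperty.pullback_fst _ _ haff
  have H : IsPullback (pullback.fst f (zz J)) (pullback.snd f (zz J)) f (zz J) := IsPullback.of_hasPullback _ _
  refine TwistFlat.isFlatOver_of_sections (pullback.snd f (zz J))
    (Sga5.AmpleFib.isAmple_pullback (pullback.fst f (zz J)) hL)
    (FormalB.PullCoh.isCoh_pullback _ hF).1 (max N N') fun n hn => ?_
  have hn1 := (le_max_left _ _).trans hn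
  have hn2 := (le_max_right _ _).trans hn
  obtain ⟨e⟩ := nonempty_pull_twist (pullback.fst f (zz J)) (F := F) hL.1 (Iso.refl _) (Iso.refl _) n
  have hE : Coh.IsCoh (CohB1.tensorMod F (CohB1.tensorPow L n)) :=
    Ega3B.CohTensor.isCoh_tensor hF (Fdesc.LocGen.isInvertible_tensorPow hL.1 n)
  have hsbc := hN' n hn2 H
  let i0 := mS f (CohB1.tensorMod F (CohB1.tensorPow L n))
  let i1 := mS (pullback.snd f (zz J)) ((Scheme.Modules.pullback (pullback.fst f (zz J))).obj
    (CohB1.tensorMod F (CohB1.tensorPow L n)))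
  let i2 := mS (pullback.snd f (zz J)) (CohB1.tensorMod
    ((Scheme.Modules.pullback (pullback.fst f (zz J))).obj F)
    (CohB1.tensorPow ((Scheme.Modules.pullback (pullback.fst f (zz J))).obj L) n))
  let i3 := (rS (zz J)).toAlgebra
  have hfinE : Module.Finite Γ(S, ⊤) Γ(CohB1.tensorMod F (CohB1.tensorPow L n), ⊤) :=
    Ega3B.AcycNbhd.finite_sections f _ hE
  obtain ⟨e1⟩ := bc_equiv hsbc
  have h0 : ∀ a ∈ J, rS (zz J) a = 0 := fun a ha => by
    have h1 : (Scheme.ΓSpecIso (CommRingCat.of (Γ(S, ⊤) ⧸ J))).commRingCatIsoToRingEquiv (rS (zz J) a) = 0 := by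
      have h2 : evr (zz J) a = 0 := by
        rw [evr_zz]
        exact Ideal.Quotient.eq_zero_iff_mem.2 ha
      exact h2
    exact (EmbeddingLike.map_eq_zero_iff).1 h1
  have hN2 : IsNoetherianRing Γ(Spec (CommRingCat.of (Γ(S, ⊤) ⧸ J)), ⊤) := Ega3B.AcycNbhd.isNoetherianRing _
  have h3 : Module.Flat Γ(Spec (CommRingCat.of (Γ(S, ⊤) ⧸ J)), ⊤)
      (Γ(Spec (CommRingCat.of (Γ(S, ⊤) ⧸ J)), ⊤) ⊗[Γ(S, ⊤)] Γ(CohB1.tensorMod F (CohB1.tensorPow L n), ⊤)) :=
    flat_of_rankIdeal (c := c n) (fun a ha => h0 a (hJ n hn1 ha))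
      (fun K _ _ => finrank_le_of_points f _ (hle n hn1) K)
  exact Module.Flat.of_linearEquiv (e1.trans (secIso (pullback.snd f (zz J)) e)).symm

omit [IsLocallyNoetherian S] [IsProper f] in
/-- The rank at the points of the closed subscheme defined by the rank ideal. -/
theorem rk_eq_of_rankIdeal (M : X.Modules) (hfin : letI := mS f M; Module.Finite Γ(S, ⊤) Γ(M, ⊤)) {c : ℕ}
    (hle : ∀ s : S, rk f M (K := S.residueField s) (S.fromSpecResidueField s) ≤ c) {K : Type u} [Field K]
    (t : Spec (CommRingCat.of K) ⟶ S)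
    (h : letI := mS f M; ∀ a ∈ rankIdeal Γ(S, ⊤) Γ(M, ⊤) c, evt t a = 0) : rk f M t = c := by
  let i0 := mS f M
  let i1 := (evt t).toAlgebra
  obtain ⟨e⟩ := free_of_rankIdeal (B := K) (A := Γ(S, ⊤)) (M := Γ(M, ⊤)) (c := c)
    (finrank_le_of_points f M hle _) h
  have := e.finrank_eq
  rw [Module.finrank_fin_fun] at this
  exact this.symm

include hL hF in
/-- **The ideal of the stratum** of a Hilbert polynomial which is maximal. -/
theorem exists_ideal (Φ : Polynomial ℚ)
    (hle : ∀ s : S, ∃ N : ℕ, ∀ n : ℕ, N ≤ n → (chi f F L s n : ℚ) ≤ Φ.eval (n : ℚ)) :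
    ∃ J : Ideal Γ(S, ⊤), ∀ (B : Type u) [CommRing B] (t : Spec (CommRingCat.of B) ⟶ S),
      (Strat.FlatAlong f F t ∧ ∀ (y : Spec (CommRingCat.of B)) (n : ℕ), (chi f F L (t y) n : ℚ) = Φ.eval (n : ℚ)) ↔
        ∀ a ∈ J, evr t a = 0 := by
  have lofpf : LocallyOfFinitePresentation f := Uniform.lofp_of_noetherian f
  have : IsLocallyNoetherian X := LocallyOfFiniteType.isLocallyNoetherian f
  have hFP : CohB1.IsFP F := (S0018.result X F).1 hF
  obtain ⟨N₁, h₁⟩ := exists_threshold f hFP hL.1 Φ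
  obtain ⟨N₂, h₂⟩ := Uniform.uniform f hL hF
  obtain ⟨N₃, h₃⟩ := exists_euler_eq f hL hF
  obtain ⟨N, hN1, hN2, hN3⟩ : ∃ N, N₁ ≤ N ∧ N₂ ≤ N ∧ N₃ ≤ N := ⟨max N₁ (max N₂ N₃), by simp, by simp, by simp⟩
  have hfin : ∀ n, letI := mS f (CohB1.tensorMod F (CohB1.tensorPow L n));
      Module.Finite Γ(S, ⊤) Γ(CohB1.tensorMod F (CohB1.tensorPow L n), ⊤) := fun n =>
    Ega3B.AcycNbhd.finite_sections f _
      (Ega3B.CohTensor.isCoh_tensor hF (Fdesc.LocGen.isInvertible_tensorPow hL.1 n))
  have hchi : ∀ n, N ≤ n → ∀ s : S, chi f F L s n = rk f (CohB1.tensorMod F (CohB1.tensorPow L n))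
      (K := S.residueField s) (S.fromSpecResidueField s) := fun n hn s => h₃ n (hN3.trans hn) s
  have hle' : ∀ n, N ≤ n → ∀ s : S, (chi f F L s n : ℚ) ≤ Φ.eval (n : ℚ) := fun n hn s => by
    rcases (h₁ s).2 with h | h
    · exact h n (hN1.trans hn)
    · obtain ⟨M, hM⟩ := hle s
      exact absurd (hM (max M N₁) (le_max_left _ _)) (not_le.2 (h _ (le_max_right _ _)))
  by_cases hΦ : ∀ n, N ≤ n → ∃ c : ℕ, (c : ℚ) = Φ.eval (n : ℚ)
  · -- main case
    have hc' : ∀ n, ∃ c : ℕ, N ≤ n → (c : ℚ) = Φ.eval (n : ℚ) := fun n => by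
      by_cases hn : N ≤ n
      · obtain ⟨c, hc⟩ := hΦ n hn
        exact ⟨c, fun _ => hc⟩
      · exact ⟨0, fun h => absurd h hn⟩
    choose c hc using hc'
    have hrle : ∀ n, N ≤ n → ∀ s : S, rk f (CohB1.tensorMod F (CohB1.tensorPow L n))
        (K := S.residueField s) (S.fromSpecResidueField s) ≤ c n := fun n hn s => by
      have h4 := hle' n hn s
      rw [hchi n hn s, ← hc n hn] at h4
      exact_mod_cast h4
    let J : Ideal Γ(S, ⊤) := ⨆ n : Set.Ici N, letI := mS f (CohB1.tensorMod F (CohB1.tensorPow L n.1))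
      rankIdeal Γ(S, ⊤) Γ(CohB1.tensorMod F (CohB1.tensorPow L n.1), ⊤) (c n.1)
    have hJ : ∀ n, N ≤ n → letI := mS f (CohB1.tensorMod F (CohB1.tensorPow L n));
      rankIdeal Γ(S, ⊤) Γ(CohB1.tensorMod F (CohB1.tensorPow L n), ⊤) (c n) ≤ J := fun n hn =>
        le_iSup (fun n : Set.Ici N => letI := mS f (CohB1.tensorMod F (CohB1.tensorPow L n.1))
          rankIdeal Γ(S, ⊤) Γ(CohB1.tensorMod F (CohB1.tensorPow L n.1), ⊤) (c n.1)) ⟨n, hn⟩
    refine ⟨J, fun B _ t => ⟨?_, fun h => ⟨?_, ?_⟩⟩⟩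
    · rintro ⟨hfl, ht⟩
      have hker : J ≤ RingHom.ker (evr t) := by
        refine iSup_le fun n a ha => ?_
        refine rankIdeal_of_flat f hL hF n.1 (fun K _ t Y g iY H => h₂ n.1 (hN2.trans n.2) K t H) t hfl (fun y => ?_) a ha
        have h5 := ht y n.1
        rw [hchi n.1 n.2, ← hc n.1 n.2] at h5
        exact_mod_cast h5
      exact fun a ha => hker ha
    · obtain ⟨t', ht'⟩ := exists_factor J t h
      rw [← ht']
      exact (flatAlong_zz f hL hF J N c hJ hrle).comp t'
    · intro y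
      refine eq_of_eventually f hFP hL.1 (t y) Φ N fun n hn => ?_
      rw [hchi n hn, ← hc n hn]
      have key : rk f (CohB1.tensorMod F (CohB1.tensorPow L n)) (K := S.residueField (t y))
          (S.fromSpecResidueField (t y)) = c n := by
        refine rk_eq_of_rankIdeal f _ (hfin n) (hrle n hn) (K := S.residueField (t y)) _ fun a ha => ?_
        have h6 : evr t a = 0 := h a (hJ n hn ha)
        have h7 : t.appTop a = 0 := by
          have : (Scheme.ΓSpecIso (CommRingCat.of B)).commRingCatIsoToRingEquiv (t.appTop a) = 0 := by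
            rw [← rS_apply]
            exact h6
          exact (EmbeddingLike.map_eq_zero_iff).1 this
        by_contra h8
        have h9 := (evt_ne_zero_iff (K := S.residueField (t y)) (S.fromSpecResidueField (t y)) default a).1 h8
        rw [Scheme.fromSpecResidueField_apply] at h9
        have h10 : y ∈ t ⁻¹ᵁ (S.basicOpen a) := h9
        rw [Scheme.preimage_basicOpen_top, h7, Scheme.basicOpen_zero] at h10
        exact h10
      exact_mod_cast key
  · -- degenerate case
    push Not at hΦ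
    obtain ⟨n, hn, hn'⟩ := hΦ
    refine ⟨⊤, fun B _ t => ⟨?_, fun h => ?_⟩⟩
    · rintro ⟨-, ht⟩ a -
      have hB : Subsingleton B := by
        by_contra hB
        rw [not_subsingleton_iff_nontrivial] at hB
        obtain ⟨y⟩ : Nonempty (Spec (CommRingCat.of B)) := (inferInstance : Nonempty (PrimeSpectrum B))
        have h5 := ht y n
        rw [hchi n hn] at h5
        exact hn' _ (by exact_mod_cast h5)
      exact Subsingleton.elim _ _
    · have h1 : (1 : B) = 0 := by rw [← h 1 trivial, map_one]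
      have hB : Subsingleton B := subsingleton_of_zero_eq_one h1.symm
      have hemp : IsEmpty (Spec (CommRingCat.of B)) := (inferInstance : IsEmpty (PrimeSpectrum B))
      refine ⟨fun x => ?_, fun y => hemp.elim y⟩
      exact (hemp.false ((pullback.snd f t) x)).elim

end Main

end K425.FlatIdeal
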