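import Groth.Agent.Variety.K425.QuotBC
import Groth.Agent.Variety.K425.Chart
import Groth.Agent.Variety.K425.FibRank

/-!
# A freeness criterion and base change in terms of rings
-/

set_option autoImplicit false
universe u
open CategoryTheory CategoryTheory.Limits AlgebraicGeometry TopologicalSpace TensorProduct

namespace K425.NakFree

open Groth.Agent K425.SecBC K425.QuotBC K425.Chart Groth.Agent.VarietyB.PullSec
open Groth.Agent.CohqA.BaseChangeMod (isBC_iff_isBaseChange)

section Alg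

/-- Nakayama: a map to a finite projective module which is an isomorphism on the closed fibre is an isomorphism. -/
theorem bijective_of_fibre {O K W M V : Type u} [CommRing O] [IsLocalRing O] [CommRing K] [AddCommGroup W]
    [Module O W] [AddCommGroup M] [Module O M] [AddCommGroup V] [Module K V] [Module.Finite O W] [Module.Finite O M]
    [Module.Projective O M] (r : O →+* K) (hr : Function.Surjective r)
    (hk : RingHom.ker r ≤ IsLocalRing.maximalIdeal O) (φ : W →ₗ[O] M) (θ : M →+ V)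
    (h₂ : CohqA.BaseChangeMod.IsBC r θ) (h₁ : CohqA.BaseChangeMod.IsBC r (θ.comp φ.toAddMonoidHom)) :
    Function.Bijective φ := by
  have hj : RingHom.ker r ≤ Ideal.jacobson ⊥ := hk.trans (IsLocalRing.maximalIdeal_le_jacobson _)
  have hsurj : Function.Surjective φ := by
    rw [← LinearMap.range_eq_top, ← top_le_iff]
    refine Submodule.le_of_le_smul_of_le_jacobson_bot (Module.Finite.fg_top) hj ?_
    intro x _
    obtain ⟨w, hw⟩ := bc_surjective hr h₁ (θ x)
    have h3 : x - φ w ∈ RingHom.ker r • (⊤ : Submodule O M) := bc_mem_ker hr h₂ _ (by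
      rw [map_sub, sub_eq_zero]
      exact hw.symm)
    exact Submodule.mem_sup.2 ⟨φ w, ⟨w, rfl⟩, x - φ w, h3, by abel⟩
  obtain ⟨s, hs⟩ := Module.projective_lifting_property φ LinearMap.id hsurj
  have hs' : ∀ x, φ (s x) = x := fun x => congr($hs x)
  have hssurj : Function.Surjective s := by
    rw [← LinearMap.range_eq_top, ← top_le_iff]
    refine Submodule.le_of_le_smul_of_le_jacobson_bot (Module.Finite.fg_top) hj ?_
    intro w _
    have h3 : w - s (φ w) ∈ RingHom.ker r • (⊤ : Submodule O W) := bc_mem_ker hr h₁ _ (by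
      change θ (φ (w - s (φ w))) = 0
      rw [map_sub, hs', sub_self, map_zero])
    exact Submodule.mem_sup.2 ⟨s (φ w), ⟨φ w, rfl⟩, w - s (φ w), h3, by abel⟩
  refine ⟨fun a b hab => ?_, hsurj⟩
  obtain ⟨x, rfl⟩ := hssurj a
  obtain ⟨y, rfl⟩ := hssurj b
  rw [hs', hs'] at hab
  rw [hab]

/-- Freeness of the base change of a finite module to a local ring. -/
theorem free_of_bc {A O E M K V : Type u} [CommRing A] [CommRing O] [IsLocalRing O] [CommRing K] [Algebra A O]
    [AddCommGroup E] [Module A E] [Module.Finite A E] [AddCommGroup M] [Module O M] [Module.Finite O M]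
    [Module.Flat O M] [AddCommGroup V] [Module K V] (r : O →+* K) (hr : Function.Surjective r)
    (hk : RingHom.ker r ≤ IsLocalRing.maximalIdeal O) (θ₁ : E →+ M) (θ₂ : M →+ V)
    (hθ₁ : ∀ (a : A) (x : E), θ₁ (a • x) = algebraMap A O a • θ₁ x)
    (h₂ : CohqA.BaseChangeMod.IsBC r θ₂)
    (h₁ : CohqA.BaseChangeMod.IsBC (r.comp (algebraMap A O)) (θ₂.comp θ₁)) :
    Module.Free O (O ⊗[A] E) := by
  let i : E →+ O ⊗[A] E := (TensorProduct.mk A O E 1).toAddMonoidHom
  have hi : CohqA.BaseChangeMod.IsBC (algebraMap A O) i := by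
    exact (isBC_iff_isBaseChange (TensorProduct.mk A O E 1)).2 (TensorProduct.isBaseChange A E O)
  let _ : Module A M := Module.compHom M (algebraMap A O)
  have : IsScalarTower A O M := ⟨fun a b c => by
      rw [Algebra.smul_def, mul_smul]
      rfl⟩
  let θ₁' : E →ₗ[A] M := { toFun := θ₁, map_add' := θ₁.map_add, map_smul' := hθ₁ }
  let φ : O ⊗[A] E →ₗ[O] M := θ₁'.liftBaseChange O
  have hφ : ∀ x, φ (i x) = θ₁ x := fun x => by
    change φ (1 ⊗ₜ[A] x) = _
    rw [LinearMap.liftBaseChange_tmul, one_smul]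
    rfl
  have h3 : (θ₂.comp φ.toAddMonoidHom).comp i = θ₂.comp θ₁ := by
    ext x
    exact congrArg θ₂ (hφ x)
  have h4 : CohqA.BaseChangeMod.IsBC r (θ₂.comp φ.toAddMonoidHom) := by
    refine (CohqA.BaseChangeMod.IsBC.comp_iff hi (fun a x => ?_)).1 (h3 ▸ h₁)
    change θ₂ (φ (a • x)) = r a • θ₂ (φ x)
    rw [map_smul, h₂.map_smul]
  have hM : Module.Free O M := Module.free_of_flat_of_isLocalRing
  have hb := bijective_of_fibre r hr hk φ θ₂ h₂ h4
  exact Module.Free.of_equiv (LinearEquiv.ofBijective φ hb).symm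

end Alg

section Geo

variable {X Y S : Scheme.{u}} {B C : Type u} [CommRing B] [CommRing C]

/-- The ring map attached to an affine point. -/
noncomputable def evr (t : Spec (CommRingCat.of B) ⟶ S) : Γ(S, ⊤) →+* B :=
  ((Scheme.ΓSpecIso (CommRingCat.of B)).hom.hom).comp (rS t)

theorem evr_field {K : Type u} [Field K] (t : Spec (CommRingCat.of K) ⟶ S) : evr t = FibRank.evt t := rfl

theorem evr_comp (φ : B →+* C) (t : Spec (CommRingCat.of B) ⟶ S) :
    evr (Spec.map (CommRingCat.ofHom φ) ≫ t) = φ.comp (evr t) := by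
  unfold evr
  rw [rS_comp]
  ext a
  change (Scheme.ΓSpecIso (CommRingCat.of C)).hom.hom (rS (Spec.map (CommRingCat.ofHom φ)) (rS t a)) =
    φ ((Scheme.ΓSpecIso (CommRingCat.of B)).hom.hom (rS t a))
  rw [rS_apply]
  exact congr($(Scheme.ΓSpecIso_naturality (CommRingCat.ofHom φ)) (rS t a))

/-- `Γ(N, ⊤)` as a `B`-module, for `Y` over `Spec B`. -/
noncomputable abbrev mB (iY : Y ⟶ Spec (CommRingCat.of B)) (N : Y.Modules) : Module B Γ(N, ⊤) :=
  letI := mS iY N
  Module.compHom Γ(N, ⊤)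
    ((Scheme.ΓSpecIso (CommRingCat.of B)).commRingCatIsoToRingEquiv.symm : B →+* Γ(Spec (CommRingCat.of B), ⊤))

theorem isBC_id (iY : Y ⟶ Spec (CommRingCat.of B)) (N : Y.Modules) :
    letI := mS iY N
    letI i₂ := mB iY N
    @CohqA.BaseChangeMod.IsBC _ _ _ _
      ((Scheme.ΓSpecIso (CommRingCat.of B)).commRingCatIsoToRingEquiv : Γ(Spec (CommRingCat.of B), ⊤) →+* B)
      Γ(N, ⊤) Γ(N, ⊤) _ _ _ i₂ (AddMonoidHom.id Γ(N, ⊤)) := by
  let i1 := mS iY N
  let i2 := mB iY N
  let e := (Scheme.ΓSpecIso (CommRingCat.of B)).commRingCatIsoToRingEquiv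
  refine CohqA.BaseChangeMod.IsBC.of_bijective _ e.bijective _ Function.bijective_id fun r x => ?_
  change r • x = e.symm (e r) • x
  rw [e.symm_apply_apply]

/-- The inverse. -/
theorem isBC_id' (iY : Y ⟶ Spec (CommRingCat.of B)) (N : Y.Modules) :
    letI := mS iY N
    letI i₂ := mB iY N
    @CohqA.BaseChangeMod.IsBC _ _ _ _
      ((Scheme.ΓSpecIso (CommRingCat.of B)).commRingCatIsoToRingEquiv.symm : B →+* Γ(Spec (CommRingCat.of B), ⊤))
      Γ(N, ⊤) Γ(N, ⊤) _ i₂ _ _ (AddMonoidHom.id Γ(N, ⊤)) := by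
  let i1 := mS iY N
  let i2 := mB iY N
  let e := (Scheme.ΓSpecIso (CommRingCat.of B)).commRingCatIsoToRingEquiv
  exact CohqA.BaseChangeMod.IsBC.of_bijective _ e.symm.bijective _ Function.bijective_id fun r x => rfl

theorem isBC_evr {g : Y ⟶ X} {iX : X ⟶ S} {iY : Y ⟶ Spec (CommRingCat.of B)} {t : Spec (CommRingCat.of B) ⟶ S}
    (w : g ≫ iX = iY ≫ t) {M : X.Modules} (h : SBC w M) :
    letI := mS iX M
    letI := mB iY ((Scheme.Modules.pullback g).obj M)
    CohqA.BaseChangeMod.IsBC (evr t) (sec g M (U := ⊤) (V := ⊤) le_top) := by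
  let i0 := mS iX M
  let i1 := mS iY ((Scheme.Modules.pullback g).obj M)
  let i2 := mB iY ((Scheme.Modules.pullback g).obj M)
  exact CohqA.BaseChangeMod.IsBC.comp h (isBC_id iY _)

theorem isBC_map {g : Y ⟶ X} {iX : X ⟶ Spec (CommRingCat.of B)} {iY : Y ⟶ Spec (CommRingCat.of C)} {φ : B →+* C}
    (w : g ≫ iX = iY ≫ Spec.map (CommRingCat.ofHom φ)) {M : X.Modules} (h : SBC w M) :
    letI := mB iX M
    letI := mB iY ((Scheme.Modules.pullback g).obj M)
    CohqA.BaseChangeMod.IsBC φ (sec g M (U := ⊤) (V := ⊤) le_top) := by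
  let i0 := mS iX M
  let i1 := mS iY ((Scheme.Modules.pullback g).obj M)
  let i2 := mB iY ((Scheme.Modules.pullback g).obj M)
  let i3 := mB iX M
  have h1 := isBC_evr w h
  have h2 := CohqA.BaseChangeMod.IsBC.comp (isBC_id' iX M) h1
  have h3 : (evr (Spec.map (CommRingCat.ofHom φ))).comp
      ((Scheme.ΓSpecIso (CommRingCat.of B)).commRingCatIsoToRingEquiv.symm : B →+* Γ(Spec (CommRingCat.of B), ⊤)) = φ := by
    ext b
    have h4 := congr($(evr_comp φ (𝟙 (Spec (CommRingCat.of B))))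
      ((Scheme.ΓSpecIso (CommRingCat.of B)).commRingCatIsoToRingEquiv.symm b))
    rw [Category.comp_id] at h4
    refine h4.trans ?_
    have h5 : evr (𝟙 (Spec (CommRingCat.of B))) ((Scheme.ΓSpecIso (CommRingCat.of B)).commRingCatIsoToRingEquiv.symm b) =
        b := by
      change (Scheme.ΓSpecIso (CommRingCat.of B)).commRingCatIsoToRingEquiv (rS (𝟙 _) _) = b
      rw [rS_apply, Scheme.Hom.id_appTop]
      exact (Scheme.ΓSpecIso (CommRingCat.of B)).commRingCatIsoToRingEquiv.apply_symm_apply b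
    change φ (evr _ _) = φ b
    rw [h5]
  rw [h3] at h2
  exact h2

end Geo

end K425.NakFree
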