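import Groth.Agent.Variety.K425.FlatIdeal
import Groth.Agent.Fga.ClosedSub

/-!
# The flattening stratification by Hilbert polynomials
-/

set_option autoImplicit false
universe u
open CategoryTheory CategoryTheory.Limits AlgebraicGeometry TopologicalSpace

namespace K425.Strata

open Groth.Agent K425.HilbFn K425.Strat K425.FibRank K425.NakFree

variable {X S : Scheme.{u}}

/-- everything is flat over a field -/
theorem flat_over_field {K : Type u} [Field K] {Y : Scheme.{u}} (q : Y ⟶ Spec (CommRingCat.of K))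
    (M : Y.Modules) : FlatMod.IsFlatOver q M := by
  intro x
  unfold FlatMod.IsFlatOverAt
  let _ := FlatMod.moduleStalkOver q M x
  let _ : Algebra K ((Spec (CommRingCat.of K)).presheaf.stalk (q.base x)) :=
    StructureSheaf.stalkAlgebra (R := K) (q.base x)
  have : IsLocalization.AtPrime ((Spec (CommRingCat.of K)).presheaf.stalk (q.base x)) (q.base x).asIdeal :=
    StructureSheaf.IsLocalization.to_stalk K (q.base x)
  let _ : Module K (M.presheaf.stalk x) :=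
    Module.compHom _ (algebraMap K ((Spec (CommRingCat.of K)).presheaf.stalk (q.base x)))
  have : IsScalarTower K ((Spec (CommRingCat.of K)).presheaf.stalk (q.base x)) (M.presheaf.stalk x) :=
    IsScalarTower.of_algebraMap_smul fun _ _ => rfl
  rw [Module.flat_iff_of_isLocalization (R := K) ((Spec (CommRingCat.of K)).presheaf.stalk (q.base x))
    (q.base x).asIdeal.primeCompl]
  infer_instance

theorem flatAlong_bc {X' S' : Scheme.{u}} {p : X' ⟶ X} {f' : X' ⟶ S'} {f : X ⟶ S} {j : S' ⟶ S}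
    (H : IsPullback p f' f j) {F : X.Modules} {F' : X'.Modules} (e : (Scheme.Modules.pullback p).obj F ≅ F')
    {W : Scheme.{u}} (g : W ⟶ S') : FlatAlong f' F' g ↔ FlatAlong f F (g ≫ j) := by
  have H1 := IsPullback.of_hasPullback f' g
  rw [flatAlong_iff f F (H1.paste_horiz H)]
  let e' : (Scheme.Modules.pullback (pullback.fst f' g ≫ p)).obj F ≅
      (Scheme.Modules.pullback (pullback.fst f' g)).obj F' :=
    ((Scheme.Modules.pullbackComp _ _).app F).symm ≪≫ (Scheme.Modules.pullback (pullback.fst f' g)).mapIso e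
  exact ⟨Models2.FlatIso.isFlatOver_of_iso _ e'.symm, Models2.FlatIso.isFlatOver_of_iso _ e'⟩

theorem flatAlong_of_local (f : X ⟶ S) (F : X.Modules) {W : Scheme.{u}} (g : W ⟶ S)
    (h : ∀ w : W, ∃ V : W.Opens, w ∈ V ∧ FlatAlong f F (V.ι ≫ g)) : FlatAlong f F g := by
  intro x
  obtain ⟨V, hV, h1⟩ := h (pullback.snd f g x)
  have H := IsPullback.of_hasPullback (pullback.snd f g) V.ι
  rw [← flatAlong_bc (IsPullback.of_hasPullback f g) (Iso.refl _)] at h1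
  obtain ⟨z, hz, -⟩ := Scheme.Pullback.exists_preimage_pullback (f := pullback.snd f g) (g := V.ι) x ⟨_, hV⟩ rfl
  have h2 := Fdesc.FlatBC.isFlatOverAt_of_pullback H _ z (h1 z)
  rwa [show (pullback.fst (pullback.snd f g) V.ι).base z = x from hz] at h2

/-- The condition defining the stratum. -/
def Cond (f : X ⟶ S) (L F : X.Modules) (Φ : Polynomial ℚ) {T : Scheme.{u}} (g : T ⟶ S) : Prop :=
  FlatAlong f F g ∧ ∀ (t : T) (n : ℕ), (chi f F L (g t) n : ℚ) = Φ.eval (n : ℚ)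

theorem Cond.comp {f : X ⟶ S} {L F : X.Modules} {Φ : Polynomial ℚ} {T T' : Scheme.{u}} {g : T ⟶ S}
    (h : Cond f L F Φ g) (j : T' ⟶ T) : Cond f L F Φ (j ≫ g) :=
  ⟨h.1.comp j, fun t n => h.2 (j t) n⟩

theorem Cond.of_local {f : X ⟶ S} {L F : X.Modules} {Φ : Polynomial ℚ} {T : Scheme.{u}} {g : T ⟶ S}
    (h : ∀ t : T, ∃ V : T.Opens, t ∈ V ∧ Cond f L F Φ (V.ι ≫ g)) : Cond f L F Φ g := by
  refine ⟨flatAlong_of_local f F g fun t => ?_, fun t n => ?_⟩
  · obtain ⟨V, hV, h1⟩ := h t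
    exact ⟨V, hV, h1.1⟩
  · obtain ⟨V, hV, h1⟩ := h t
    exact h1.2 ⟨t, hV⟩ n

/-- Base change of the condition. -/
theorem cond_bc {X' S' : Scheme.{u}} {p : X' ⟶ X} {f' : X' ⟶ S'} {f : X ⟶ S} {j : S' ⟶ S}
    (H : IsPullback p f' f j) [QuasiCompact f] [QuasiSeparated f] {F : X.Modules} (hF : CohB1.IsFP F)
    {L : X.Modules} (hL : PicF.IsInvertible L) {F' L' : X'.Modules}
    (e : (Scheme.Modules.pullback p).obj F ≅ F') (e' : (Scheme.Modules.pullback p).obj L ≅ L')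
    (Φ : Polynomial ℚ) {W : Scheme.{u}} (g : W ⟶ S') : Cond f' L' F' Φ g ↔ Cond f L F Φ (g ≫ j) := by
  have h1 : ∀ w : W, chi f' F' L' (g w) = chi f F L ((g ≫ j) w) := fun w => by
    rw [← chi_congr f' e e' (g w), chi_bc H hF hL (g w)]
    rfl
  unfold Cond
  simp only [flatAlong_bc H e g, h1]

section Open

variable [IsAffine S] [IsLocallyNoetherian S] (f : X ⟶ S) [IsProper f] {L : X.Modules}
  (hL : CohB1.IsAmple L) {F : X.Modules} (hF : Coh.IsCoh F)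

include hL hF in
theorem isOpen_affine (Φ : Polynomial ℚ) :
    IsOpen {s : S | ∃ N : ℕ, ∀ n : ℕ, N ≤ n → (chi f F L s n : ℚ) ≤ Φ.eval (n : ℚ)} := by
  have lofpf : LocallyOfFinitePresentation f := Uniform.lofp_of_noetherian f
  have : IsLocallyNoetherian X := LocallyOfFiniteType.isLocallyNoetherian f
  have hFP : CohB1.IsFP F := (S0018.result X F).1 hF
  obtain ⟨N₁, h₁⟩ := exists_threshold f hFP hL.1 Φ
  obtain ⟨N₂, h₂⟩ := FibRank.exists_euler_eq f hL hF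
  let n := max N₁ N₂
  have hcoh : Coh.IsCoh (CohB1.tensorMod F (CohB1.tensorPow L n)) :=
    Ega3B.CohTensor.isCoh_tensor hF (Fdesc.LocGen.isInvertible_tensorPow hL.1 n)
  have h3 : ∀ s, (chi f F L s n : ℚ) = (FibRank.rk f (CohB1.tensorMod F (CohB1.tensorPow L n))
        (K := S.residueField s) (S.fromSpecResidueField s) : ℚ) := fun s => by
      have := h₂ n (le_max_right _ _) s
      exact congrArg (Int.cast : ℤ → ℚ) this
  have key : {s : S | ∃ N : ℕ, ∀ n : ℕ, N ≤ n → (chi f F L s n : ℚ) ≤ Φ.eval (n : ℚ)} =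
      {s : S | (chi f F L s n : ℚ) ≤ Φ.eval (n : ℚ)} := by
    ext s
    simp only [Set.mem_ofPred_eq]
    rcases (h₁ s).2 with h | h
    · exact ⟨fun _ => h n (le_max_left _ _), fun _ => ⟨N₁, h⟩⟩
    · refine ⟨?_, fun h4 => absurd h4 (not_le.2 (h n (le_max_left _ _)))⟩
      rintro ⟨N, hN⟩
      exact absurd (hN (max N N₁) (le_max_left _ _)) (not_le.2 (h _ (le_max_right _ _)))
  rw [key]
  by_cases hq : 0 ≤ Φ.eval (n : ℚ)
  · have h4 : {s : S | (chi f F L s n : ℚ) ≤ Φ.eval (n : ℚ)} =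
        {s : S | ⌊Φ.eval (n : ℚ)⌋₊ + 1 ≤ FibRank.rk f (CohB1.tensorMod F (CohB1.tensorPow L n))
          (K := S.residueField s) (S.fromSpecResidueField s)}ᶜ := by
      ext s
      simp only [Set.mem_ofPred_eq, Set.mem_compl_iff, h3, not_le, Nat.lt_add_one_iff, Nat.le_floor_iff hq]
    rw [h4, isOpen_compl_iff]
    exact FibRank.isClosed_rk f _ (Ega3B.AcycNbhd.finite_sections f _ hcoh) _
  · have h4 : {s : S | (chi f F L s n : ℚ) ≤ Φ.eval (n : ℚ)} = ∅ := by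
      ext s
      simp only [Set.mem_ofPred_eq, h3, Set.mem_empty_iff_false, iff_false, not_le]
      exact lt_of_lt_of_le (not_le.1 hq) (Nat.cast_nonneg _)
    rw [h4]
    exact isOpen_empty

end Open

/-- The set of points with small Hilbert polynomial is open. -/
theorem isOpen_le (f : X ⟶ S) [IsProper f] [LocallyOfFinitePresentation f]
    {L : X.Modules} (hL : RelAmple.IsRelAmple f L) {F : X.Modules} (hF : CohB1.IsFP F) (Φ : Polynomial ℚ) :
    IsOpen {s : S | ∃ N : ℕ, ∀ n : ℕ, N ≤ n → (chi f F L s n : ℚ) ≤ Φ.eval (n : ℚ)} := by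
  rw [← isClosed_compl_iff]
  refine ChartModel.isClosed_of_affine _ fun V hV => ?_
  obtain ⟨S₀, X₀, f₀, q, g, F₀, L₀, haff, hN, H, hprop, hL₀, hF₀, -, -, -, hchi⟩ :=
    ChartModel.exists_chart_model f hL hF hV
  have h1 := (isOpen_affine f₀ hL₀ hF₀ Φ).isClosed_compl.preimage q.continuous
  convert h1 using 1
  ext y
  simp only [Set.mem_preimage, Set.mem_compl_iff, Set.mem_ofPred_eq, hchi]

section Main

variable (f : X ⟶ S) [IsProper f] [LocallyOfFinitePresentation f]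
    {L : X.Modules} (hL : RelAmple.IsRelAmple f L) {F : X.Modules} (hF : CohB1.IsFP F) (Φ : Polynomial ℚ)

/-- The open set of points with small Hilbert polynomial. -/
def opn : S.Opens := ⟨{s : S | ∃ N : ℕ, ∀ n : ℕ, N ≤ n → (chi f F L s n : ℚ) ≤ Φ.eval (n : ℚ)}, isOpen_le f hL hF Φ⟩

/-- Data of a good chart. -/
theorem exists_chart (x : (opn f hL hF Φ).toScheme) :
    ∃ (A : CommRingCat.{u}) (v : Spec A ⟶ (opn f hL hF Φ).toScheme) (S₀ X₀ : Scheme.{u}) (f₀ : X₀ ⟶ S₀)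
      (q : Spec A ⟶ S₀) (F₀ L₀ : X₀.Modules), IsOpenImmersion v ∧ x ∈ Set.range v ∧ IsAffine S₀ ∧
        IsLocallyNoetherian S₀ ∧ IsProper f₀ ∧ CohB1.IsAmple L₀ ∧ Coh.IsCoh F₀ ∧
        (∀ s : S₀, ∃ N : ℕ, ∀ n : ℕ, N ≤ n → (chi f₀ F₀ L₀ s n : ℚ) ≤ Φ.eval (n : ℚ)) ∧
        ∀ {T : Scheme.{u}} (h : T ⟶ Spec A), Cond f L F Φ ((h ≫ v) ≫ (opn f hL hF Φ).ι) ↔ Cond f₀ L₀ F₀ Φ (h ≫ q) := by
  have hLi := CalgB.AmpleRel.isInvertible_of_isRelAmple hL
  let U := opn f hL hF Φ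
  obtain ⟨V, hV, hsV, hVU⟩ := exists_isAffineOpen_mem_and_subset (show U.ι x ∈ U from x.2)
  obtain ⟨S₀, X₀, f₀, q, g, F₀, L₀, haff, hN, H, hprop, hL₀, hF₀, hF₀', ⟨eF⟩, ⟨eL⟩, hchi⟩ :=
    ChartModel.exists_chart_model f hL hF hV
  obtain ⟨y₀, hy₀⟩ : U.ι x ∈ Set.range hV.fromSpec := by
    rw [hV.range_fromSpec]
    exact hsV
  let U₀ : S₀.Opens := ⟨{s : S₀ | ∃ N : ℕ, ∀ n : ℕ, N ≤ n → (chi f₀ F₀ L₀ s n : ℚ) ≤ Φ.eval (n : ℚ)},
    isOpen_affine f₀ hL₀ hF₀ Φ⟩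
  have hqy : q y₀ ∈ U₀ := by
    change ∃ N : ℕ, ∀ n : ℕ, N ≤ n → (chi f₀ F₀ L₀ (q y₀) n : ℚ) ≤ Φ.eval (n : ℚ)
    rw [hchi, hy₀]
    exact x.2
  obtain ⟨W₀, hW₀, hqW, hWU⟩ := exists_isAffineOpen_mem_and_subset hqy
  obtain ⟨V', hV', hyV', hV'q⟩ := exists_isAffineOpen_mem_and_subset (show y₀ ∈ q ⁻¹ᵁ W₀ from hqW)
  let v₁ : Spec Γ(Spec Γ(S, V), V') ⟶ Spec Γ(S, V) := hV'.fromSpec
  have hv₁ : Set.range v₁ = V' := hV'.range_fromSpec
  have h1 : Set.range (v₁ ≫ q) ⊆ Set.range W₀.ι := by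
    rintro _ ⟨z, rfl⟩
    rw [Scheme.Opens.range_ι]
    exact hV'q (hv₁.le ⟨z, rfl⟩)
  have h2 : Set.range (v₁ ≫ hV.fromSpec) ⊆ Set.range U.ι := by
    rintro _ ⟨z, rfl⟩
    rw [Scheme.Opens.range_ι]
    exact hVU (hV.range_fromSpec.le ⟨v₁ z, rfl⟩)
  let q' : Spec Γ(Spec Γ(S, V), V') ⟶ W₀.toScheme := IsOpenImmersion.lift W₀.ι (v₁ ≫ q) h1
  have hq' : q' ≫ W₀.ι = v₁ ≫ q := IsOpenImmersion.lift_fac _ _ _
  let v : Spec Γ(Spec Γ(S, V), V') ⟶ U.toScheme := IsOpenImmersion.lift U.ι (v₁ ≫ hV.fromSpec) h2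
  have hv : v ≫ U.ι = v₁ ≫ hV.fromSpec := IsOpenImmersion.lift_fac _ _ _
  have hvo : IsOpenImmersion v := by
    have : IsOpenImmersion (v ≫ U.ι) := by rw [hv]; infer_instance
    exact IsOpenImmersion.of_comp v U.ι
  have i1 : IsAffine W₀.toScheme := hW₀
  have i2 : IsLocallyNoetherian W₀.toScheme := LocallyOfFiniteType.isLocallyNoetherian W₀.ι
  have i3 : IsAffineHom W₀.ι := isAffineHom_of_isAffine _
  have i4 : IsAffineHom (pullback.fst f₀ W₀.ι) := MorphismProperty.pullback_fst _ _ i3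
  have HW := IsPullback.of_hasPullback f₀ W₀.ι
  refine ⟨_, v, W₀.toScheme, pullback f₀ W₀.ι, pullback.snd f₀ W₀.ι, q',
    (Scheme.Modules.pullback (pullback.fst f₀ W₀.ι)).obj F₀,
    (Scheme.Modules.pullback (pullback.fst f₀ W₀.ι)).obj L₀, hvo, ?_, i1, i2, inferInstance,
    Sga5.AmpleFib.isAmple_pullback (pullback.fst f₀ W₀.ι) hL₀, FormalB.PullCoh.isCoh_pullback _ hF₀, ?_, ?_⟩
  · obtain ⟨z, hz⟩ : y₀ ∈ Set.range v₁ := by rw [hv₁]; exact hyV'
    refine ⟨z, U.ι.isOpenEmbedding.injective ?_⟩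
    have : (v ≫ U.ι) z = (v₁ ≫ hV.fromSpec) z := by rw [hv]
    refine this.trans ?_
    change hV.fromSpec (v₁ z) = _
    rw [hz, hy₀]
  · intro s
    rw [chi_bc HW hF₀' hL₀.1 s]
    exact hWU s.2
  · intro T h
    rw [cond_bc HW hF₀' hL₀.1 (Iso.refl _) (Iso.refl _) Φ (h ≫ q'), Category.assoc, Category.assoc, hv, hq',
      ← Category.assoc, ← Category.assoc, ← cond_bc H hF₀' hL₀.1 eF eL Φ (h ≫ v₁),
      ← cond_bc (IsPullback.of_hasPullback f hV.fromSpec) hF hLi (Iso.refl _) (Iso.refl _) Φ (h ≫ v₁)]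

theorem isClosedCond : Fga.ClosedSub.IsClosedCond (opn f hL hF Φ).toScheme (fun _ => True)
    (fun {T} (h : T ⟶ (opn f hL hF Φ).toScheme) => Cond f L F Φ (h ≫ (opn f hL hF Φ).ι)) where
  comp j h _ _ hh := by
    rw [Category.assoc]
    exact hh.comp j
  loc h _ hh := by
    refine Cond.of_local fun t => ?_
    obtain ⟨V, hV, h1⟩ := hh t
    rw [Category.assoc] at h1
    exact ⟨V, hV, h1⟩
  aff x := by
    obtain ⟨A, v, S₀, X₀, f₀, q, F₀, L₀, hv, hx, hS₀, hN₀, hf₀, hL₀, hF₀, hle, hcond⟩ := exists_chart f hL hF Φ x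
    obtain ⟨J, hJ⟩ := FlatIdeal.exists_ideal f₀ hL₀ hF₀ Φ hle
    let q' : Spec (CommRingCat.of A) ⟶ S₀ := q
    refine ⟨A, v, hv, hx, J.map (evr q'), fun B φ _ => ?_⟩
    rw [hcond]
    refine (hJ B (Spec.map φ ≫ q)).trans ?_
    have h1 : evr (B := B) (Spec.map φ ≫ q) = φ.hom.comp (evr q') := evr_comp φ.hom q'
    rw [h1]
    constructor
    · intro h
      have : J.map (evr q') ≤ RingHom.ker φ.hom := by
        rw [Ideal.map_le_iff_le_comap]
        exact fun a ha => h a ha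
      exact fun a ha => this ha
    · exact fun h a ha => h _ (Ideal.mem_map_of_mem _ ha)

include hL hF in
/-- The stratum. -/
theorem exists_stratum : ∃ (W : Scheme.{u}) (i : W ⟶ S), IsImmersion i ∧
    ∀ {T : Scheme.{u}} (g : T ⟶ S), (∃ h : T ⟶ W, h ≫ i = g) ↔ Cond f L F Φ g := by
  obtain ⟨Z, i, hi, -, -, hZ⟩ := Fga.ClosedSub.exists_closed (Fga.ClosedSub.TestClass.all _)
    (isClosedCond f hL hF Φ)
  refine ⟨Z, i ≫ (opn f hL hF Φ).ι, inferInstance, fun {T} g => ⟨?_, fun h => ?_⟩⟩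
  · rintro ⟨h, rfl⟩
    have := (hZ (h ≫ i) trivial).2 ⟨h, rfl⟩
    rwa [Category.assoc] at this
  · have h1 : Set.range g ⊆ Set.range (opn f hL hF Φ).ι := by
      rintro _ ⟨t, rfl⟩
      rw [Scheme.Opens.range_ι]
      exact ⟨0, fun n _ => (h.2 t n).le⟩
    have h2 : IsOpenImmersion.lift (opn f hL hF Φ).ι g h1 ≫ (opn f hL hF Φ).ι = g := IsOpenImmersion.lift_fac _ _ _
    obtain ⟨k, hk⟩ := (hZ (IsOpenImmersion.lift (opn f hL hF Φ).ι g h1) trivial).1 (by rw [h2]; exact h)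
    exact ⟨k, by rw [← Category.assoc, hk, h2]⟩

end Main

end K425.Strata
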